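import Mathlib.GroupTheory.Index
import Mathlib.GroupTheory.Subgroup.Centralizer
import Mathlib.GroupTheory.SpecificGroups.Cyclic
import Mathlib.GroupTheory.Sylow

/-!
# Counting with trivial intersection subgroups
-/

set_option autoImplicit false

namespace CfsgLib.Lie.TICount

variable {G : Type*} [Group G]

/-- if every element with the property lies, up to conjugacy, in `A`, and conjugation between such
elements of `A` happens in the normaliser, they are counted by the index of the normaliser -/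
theorem card_conj (A : Subgroup G) (P : G → Prop) (hP : ∀ g x, P x → P (g * x * g⁻¹))
    (hcov : ∀ x, P x → ∃ c, c⁻¹ * x * c ∈ A)
    (hTI : ∀ a ∈ A, P a → ∀ c, c * a * c⁻¹ ∈ A → c ∈ Subgroup.normalizer (A : Set G)) :
    Nat.card {x // P x} =
      (Subgroup.normalizer (A : Set G)).index * Nat.card {a : G // a ∈ A ∧ P a} := by
  set N := Subgroup.normalizer (A : Set G)
  rw [Subgroup.index, ← Nat.card_prod]
  symm
  refine Nat.card_eq_of_bijective
    (fun ka : (G ⧸ N) × {a : G // a ∈ A ∧ P a} => ⟨ka.1.out * ka.2.1 * ka.1.out⁻¹, hP _ _ ka.2.2.2⟩)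
    ⟨?_, ?_⟩
  · rintro ⟨k, a, ha, hPa⟩ ⟨k', a', ha', hPa'⟩ h
    have h' : k.out * a * k.out⁻¹ = k'.out * a' * k'.out⁻¹ := congrArg Subtype.val h
    have e : k'.out⁻¹ * k.out * a * (k'.out⁻¹ * k.out)⁻¹ = a' := by
      calc k'.out⁻¹ * k.out * a * (k'.out⁻¹ * k.out)⁻¹ = k'.out⁻¹ * (k.out * a * k.out⁻¹) * k'.out := by group
        _ = a' := by rw [h']; group
    have hk : k' = k := by
      have h2 := QuotientGroup.eq.2 (hTI a ha hPa _ (e ▸ ha'))
      rwa [QuotientGroup.out_eq', QuotientGroup.out_eq'] at h2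
    subst hk
    obtain rfl : a = a' := by
      rw [inv_mul_cancel, one_mul, inv_one, mul_one] at e
      exact e
    rfl
  · rintro ⟨x, hx⟩
    obtain ⟨c, hc⟩ := hcov x hx
    obtain ⟨n, hn⟩ := QuotientGroup.mk_out_eq_mul N c
    set k : G ⧸ N := QuotientGroup.mk c
    refine ⟨⟨k, ⟨k.out⁻¹ * x * k.out, ?_, ?_⟩⟩, Subtype.ext ?_⟩
    · rw [hn, show (c * n)⁻¹ * x * (c * n) = (n : G)⁻¹ * (c⁻¹ * x * c) * (n : G) by group]
      exact (Subgroup.mem_normalizer_iff''.1 n.2 _).1 hc
    · simpa [mul_assoc] using hP k.out⁻¹ x hx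
    · simp [mul_assoc]

/-- a finite cyclic group has one subgroup for each order -/
theorem cyclic_subgroup_unique [Finite G] {A H₁ H₂ : Subgroup G} (hA : IsCyclic A) (h1 : H₁ ≤ A)
    (h2 : H₂ ≤ A) (e : Nat.card H₁ = Nat.card H₂) : H₁ = H₂ := by
  obtain ⟨g, hg⟩ := hA.exists_generator
  have key : ∀ H : Subgroup G, H ≤ A → ∀ x, x ∈ H ↔ x ∈ A ∧ x ^ Nat.card H = 1 := by
    classical
    intro H hH
    haveI := Fintype.ofFinite A
    intro x
    refine ⟨fun hx => ⟨hH hx, congrArg Subtype.val (pow_card_eq_one' (x := (⟨x, hx⟩ : H)))⟩, ?_⟩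
    rintro ⟨hxA, hx⟩
    by_contra hxH
    let f : Option H → {a : A // a ^ Nat.card H = 1} := fun o =>
      match o with
      | none => ⟨⟨x, hxA⟩, Subtype.ext hx⟩
      | some y => ⟨⟨y, hH y.2⟩, Subtype.ext (show (y : G) ^ Nat.card H = 1 from
        congrArg Subtype.val (pow_card_eq_one' (x := y)))⟩
    have hf : Function.Injective f := by
      rintro (_ | y) (_ | y') h
      · rfl
      · have h' : x = (y' : G) := congrArg (fun z => ((z.1 : A) : G)) h
        exact absurd (by rw [h']; exact y'.2) hxH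
      · have h' : (y : G) = x := congrArg (fun z => ((z.1 : A) : G)) h
        exact absurd (by rw [← h']; exact y.2) hxH
      · exact congrArg some (Subtype.ext (congrArg (fun z => ((z.1 : A) : G)) h))
    have h3 := Nat.card_le_card_of_injective f hf
    rw [Finite.card_option, Nat.card_eq_fintype_card (α := {a : A // a ^ Nat.card H = 1}),
      Fintype.card_subtype] at h3
    have h4 := IsCyclic.card_pow_eq_one_le (α := A) (n := Nat.card H) Nat.card_pos
    omega
  ext x
  rw [key H₁ h1, key H₂ h2, e]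

/-- cyclic Sylow subgroups: all elements of order `p` generate conjugate subgroups -/
theorem exists_conj_zpowers [Finite G] {p : ℕ} [Fact p.Prime]
    (hcyc : ∀ P : Sylow p G, IsCyclic (P : Subgroup G)) {x y : G} (hx : orderOf x = p)
    (hy : orderOf y = p) : ∃ c, c⁻¹ * x * c ∈ Subgroup.zpowers y := by
  have hp : ∀ z : G, orderOf z = p → IsPGroup p (Subgroup.zpowers z) := fun z hz =>
    IsPGroup.of_card (n := 1) (by rw [Nat.card_zpowers, hz, pow_one])
  obtain ⟨P, hP⟩ := (hp x hx).exists_le_sylow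
  obtain ⟨Q, hQ⟩ := (hp y hy).exists_le_sylow
  obtain ⟨c, hc⟩ := MulAction.exists_smul_eq G Q P
  refine ⟨c, ?_⟩
  have hxP : x ∈ (c • Q : Sylow p G) := hc.symm ▸ hP (Subgroup.mem_zpowers x)
  have hx' : c⁻¹ * x * c ∈ (Q : Subgroup G) := by
    change x ∈ ((c • Q : Sylow p G) : Subgroup G) at hxP
    rw [Sylow.coe_subgroup_smul, Subgroup.mem_pointwise_smul_iff_inv_smul_mem] at hxP
    simpa [MulAut.smul_def] using hxP
  have e : Subgroup.zpowers (c⁻¹ * x * c) = Subgroup.zpowers y := by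
    refine cyclic_subgroup_unique (hcyc Q) (Subgroup.zpowers_le.2 hx') hQ ?_
    rw [Nat.card_zpowers, Nat.card_zpowers, hy, show c⁻¹ * x * c = MulAut.conj c⁻¹ x by simp,
      MulEquiv.orderOf_eq, hx]
  exact e ▸ Subgroup.mem_zpowers _

/-- a cyclic torus, its normaliser and the covering property -/
structure TorusData (A : Subgroup G) (k n : ℕ) : Prop where
  cyc : IsCyclic A
  card : Nat.card A = k
  normCard : Nat.card (Subgroup.normalizer (A : Set G)) = n
  normSub : ∀ A₀ : Subgroup G, A₀ ≤ A → A₀ ≠ ⊥ →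
    Subgroup.normalizer (A₀ : Set G) = Subgroup.normalizer (A : Set G)
  cover : ∀ g : G, g ≠ 1 → orderOf g ∣ k → ∃ c, c⁻¹ * g * c ∈ A

theorem TorusData.ti [Finite G] {A : Subgroup G} {k n : ℕ} (T : TorusData A k n) {a : G} (ha : a ∈ A)
    (ha1 : a ≠ 1) {c : G} (hc : c * a * c⁻¹ ∈ A) : c ∈ Subgroup.normalizer (A : Set G) := by
  have hne : Subgroup.zpowers a ≠ ⊥ := fun h => ha1 (Subgroup.zpowers_eq_bot.1 h)
  rw [← T.normSub _ (Subgroup.zpowers_le.2 ha) hne]
  have e : Subgroup.zpowers (c * a * c⁻¹) = Subgroup.zpowers a := by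
    refine cyclic_subgroup_unique T.cyc (Subgroup.zpowers_le.2 hc) (Subgroup.zpowers_le.2 ha) ?_
    rw [Nat.card_zpowers, Nat.card_zpowers, ← MulAut.conj_apply, MulEquiv.orderOf_eq]
  have hmap : (Subgroup.zpowers a).map (MulAut.conj c).toMonoidHom = Subgroup.zpowers a := by
    rw [MonoidHom.map_zpowers]
    exact e
  rw [Subgroup.mem_normalizer_iff]
  intro x
  conv_rhs => rw [← hmap]
  exact (Subgroup.mem_map_iff_mem (MulEquiv.injective _)).symm

theorem TorusData.cover' {A : Subgroup G} {k n : ℕ} (T : TorusData A k n) (g : G)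
    (hg : orderOf g ∣ k) : ∃ c, c⁻¹ * g * c ∈ A := by
  rcases eq_or_ne g 1 with rfl | h
  · exact ⟨1, by simp⟩
  · exact T.cover g h hg

/-- cyclic subgroups of the same order dividing `k` are conjugate -/
theorem TorusData.conj_cyclic [Finite G] {A : Subgroup G} {k n : ℕ} (T : TorusData A k n)
    {B₁ B₂ : Subgroup G} (h₁ : IsCyclic B₁) (h₂ : IsCyclic B₂) (hd : Nat.card B₁ ∣ k)
    (he : Nat.card B₂ = Nat.card B₁) : ∃ g : G, B₂ = B₁.map (MulAut.conj g).toMonoidHom := by
  obtain ⟨⟨b₁, hb₁⟩, hg₁⟩ := h₁.exists_generator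
  obtain ⟨⟨b₂, hb₂⟩, hg₂⟩ := h₂.exists_generator
  have z : ∀ (B : Subgroup G) (b : G) (hb : b ∈ B), (∀ x, x ∈ Subgroup.zpowers (⟨b, hb⟩ : B)) →
      B = Subgroup.zpowers b := by
    intro B b hb hg
    refine le_antisymm (fun x hx => ?_) (Subgroup.zpowers_le.2 hb)
    obtain ⟨i, hi⟩ := hg ⟨x, hx⟩
    exact ⟨i, congrArg Subtype.val hi⟩
  obtain rfl := z B₁ b₁ hb₁ hg₁
  obtain rfl := z B₂ b₂ hb₂ hg₂
  rw [Nat.card_zpowers] at hd
  simp only [Nat.card_zpowers] at he
  obtain ⟨c, hc⟩ := T.cover' b₁ hd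
  obtain ⟨d, hd'⟩ := T.cover' b₂ (he ▸ hd)
  refine ⟨d * c⁻¹, ?_⟩
  have e : Subgroup.zpowers (d⁻¹ * b₂ * d) = Subgroup.zpowers (c⁻¹ * b₁ * c) := by
    refine cyclic_subgroup_unique T.cyc (Subgroup.zpowers_le.2 hd') (Subgroup.zpowers_le.2 hc) ?_
    rw [Nat.card_zpowers, Nat.card_zpowers, show d⁻¹ * b₂ * d = MulAut.conj d⁻¹ b₂ by simp,
      show c⁻¹ * b₁ * c = MulAut.conj c⁻¹ b₁ by simp, MulEquiv.orderOf_eq, MulEquiv.orderOf_eq, he]
  have e' := congrArg (fun H : Subgroup G => H.map (MulAut.conj d).toMonoidHom) e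
  simp only [MonoidHom.map_zpowers, MulEquiv.coe_toMonoidHom, MulAut.conj_apply] at e'
  rw [MonoidHom.map_zpowers, MulEquiv.coe_toMonoidHom, MulAut.conj_apply]
  calc Subgroup.zpowers b₂ = Subgroup.zpowers (d * (d⁻¹ * b₂ * d) * d⁻¹) := by group
    _ = Subgroup.zpowers (d * (c⁻¹ * b₁ * c) * d⁻¹) := e'
    _ = Subgroup.zpowers (d * c⁻¹ * b₁ * (d * c⁻¹)⁻¹) := by group

/-- the number of elements of order `i` -/
theorem TorusData.count [Finite G] {A : Subgroup G} {k n : ℕ} (T : TorusData A k n) {i : ℕ}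
    (hi : 1 < i) (hik : i ∣ k) :
    n * Nat.card {g : G // orderOf g = i} = Nat.totient i * Nat.card G := by
  classical
  haveI := T.cyc
  rw [card_conj A (fun g => orderOf g = i) (fun g x hx => by rw [← MulAut.conj_apply, MulEquiv.orderOf_eq, hx])
    (fun x hx => T.cover' x (hx ▸ hik))
    (fun a ha hP c hc => T.ti ha (fun h => by rw [h, orderOf_one] at hP; omega) hc)]
  haveI := Fintype.ofFinite A
  have hA : Nat.card {a : G // a ∈ A ∧ orderOf a = i} = Nat.totient i := by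
    rw [← Nat.card_congr (Equiv.subtypeSubtypeEquivSubtypeInter (fun a => a ∈ A) (fun a => orderOf a = i))]
    simp only [Subgroup.orderOf_coe]
    rw [Nat.card_eq_fintype_card, Fintype.card_subtype,
      IsCyclic.card_orderOf_eq_totient (by rw [← Nat.card_eq_fintype_card, T.card]; exact hik)]
  rw [hA, ← mul_assoc, ← T.normCard, Subgroup.card_mul_index, mul_comm]

end CfsgLib.Lie.TICount
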