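import Cfsg.Agent.Lib.Lie.Chev.Tw.Ree.Tori.Split

/-!
# ²G₂(q): the Borel subgroup and the elements of order divisible by three
-/

set_option autoImplicit false
set_option maxRecDepth 100000

namespace CfsgLib.Lie.Chev.TG2

open Cfsg.Lie
open scoped MatrixGroups

variable {K : Type*} [Field K] [Fintype K] [CharP K 3] {θ : K ≃+* K} {m : ℕ} (R : Ree θ m)

theorem three_zero : (3 : K) = 0 := by exact_mod_cast CharP.cast_eq_zero K 3

theorem he_conj_mem (b : Kˣ) {w : ↥(twistedG2 K (3 ^ m))} (hw : w ∈ R.gp.gU) :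
    he R b * w * (he R b)⁻¹ ∈ R.gp.gU :=
  (Subgroup.mem_normalizer_iff.1 (he_normalizes R b).1 w).1 hw

theorem gU_conj_mem {g : ↥(twistedG2 K (3 ^ m))} (hg : g ∈ R.gp.gB) {w : ↥(twistedG2 K (3 ^ m))}
    (hw : w ∈ R.gp.gU) : g * w * g⁻¹ ∈ R.gp.gU := by
  rw [← R.gp.normalizer_gU] at hg
  exact (Subgroup.mem_normalizer_iff.1 hg w).1 hw

include R in
theorem card_K_facts : 3 ≤ Fintype.card K ∧ Fintype.card K % 8 = 3 ∧ ¬ 3 ∣ Fintype.card K - 1 := by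
  rw [R.big]
  have h8 : 3 ^ (2 * m + 1) % 8 = 3 := by rw [pow_succ, pow_mul, Nat.mul_mod, Nat.pow_mod]; simp
  have h3 : 3 ∣ 3 ^ (2 * m + 1) := dvd_pow_self 3 (Nat.succ_ne_zero _)
  obtain ⟨k, hk⟩ := h3
  exact ⟨Nat.le_self_pow (Nat.succ_ne_zero _) 3, h8, by rw [hk] at h8 ⊢; omega⟩

theorem exists_gB {z : ↥(twistedG2 K (3 ^ m))} (hz : z ∈ R.gp.gB) :
    ∃ w ∈ R.gp.gU, ∃ b, z = w * he R b := by
  obtain ⟨w, hw, h, hh, e⟩ := R.gp.mem_gB_iff.1 hz
  obtain ⟨b, rfl⟩ := (mem_gH_iff R).1 hh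
  exact ⟨w, hw, b, e⟩

theorem gB_ext {w w' : ↥(twistedG2 K (3 ^ m))} (hw : w ∈ R.gp.gU) (hw' : w' ∈ R.gp.gU) {b b' : Kˣ}
    (e : w * he R b = w' * he R b') : w = w' ∧ b = b' := by
  have h1 : w'⁻¹ * w = he R b' * (he R b)⁻¹ := by
    calc w'⁻¹ * w = w'⁻¹ * (w * he R b) * (he R b)⁻¹ := by group
      _ = _ := by rw [e]; group
  have h2 := eq_one_of_gU_gH R (mul_mem (inv_mem hw') hw)
    (h1 ▸ mul_mem (he_mem R b') (inv_mem (he_mem R b)))
  have h3 : w = w' := (inv_mul_eq_one.1 h2).symm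
  subst h3
  exact ⟨rfl, he_injective R (mul_left_cancel e)⟩

theorem card_gU_eq : Nat.card R.gp.gU = Fintype.card K ^ 3 := by
  rw [← Nat.card_eq_of_bijective (fun x : K × K × K => (⟨pe R x.1 x.2.1 x.2.2,
    (mem_gU_iff R).2 ⟨_, _, _, rfl⟩⟩ : R.gp.gU)) ⟨fun x y h => ?_, fun ⟨g, hg⟩ => ?_⟩]
  · rw [Nat.card_prod, Nat.card_prod, Nat.card_eq_fintype_card]; ring
  · obtain ⟨h1, h2, h3⟩ := pe_inj R (congrArg Subtype.val h)
    exact Prod.ext h1 (Prod.ext h2 h3)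
  · obtain ⟨t, u, v, rfl⟩ := (mem_gU_iff R).1 hg
    exact ⟨(t, u, v), rfl⟩

theorem card_gB : Nat.card R.gp.gB = Fintype.card K ^ 3 * (Fintype.card K - 1) := by
  rw [← Nat.card_eq_of_bijective (fun x : R.gp.gU × Kˣ => (⟨x.1 * he R x.2,
    mul_mem (R.gp.gU_le_gB x.1.2) (R.gp.gH_le_gB (he_mem R x.2))⟩ : R.gp.gB))
    ⟨fun x y h => ?_, fun ⟨g, hg⟩ => ?_⟩]
  · rw [Nat.card_prod, card_gU_eq R, Nat.card_units, Nat.card_eq_fintype_card]
  · obtain ⟨h1, h2⟩ := gB_ext R x.1.2 y.1.2 (congrArg Subtype.val h)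
    exact Prod.ext (Subtype.ext h1) h2
  · obtain ⟨w, hw, b, rfl⟩ := exists_gB R hg
    exact ⟨(⟨w, hw⟩, b), rfl⟩

theorem gU_pow_nine {w : ↥(twistedG2 K (3 ^ m))} (hw : w ∈ R.gp.gU) : w ^ 9 = 1 := by
  obtain ⟨t, u, v, rfl⟩ := (mem_gU_iff R).1 hw
  rw [show 9 = 3 * 3 from rfl, pow_mul, pe_cube, pe_cube]
  simp [pe_zero]

/-- the torus part of a power -/
theorem pow_gB {w : ↥(twistedG2 K (3 ^ m))} (hw : w ∈ R.gp.gU) (b : Kˣ) (n : ℕ) :
    ∃ w' ∈ R.gp.gU, (w * he R b) ^ n = w' * he R (b ^ n) := by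
  induction n with
  | zero => exact ⟨1, one_mem _, by simp⟩
  | succ n ih =>
    obtain ⟨w', hw', e⟩ := ih
    refine ⟨w' * (he R (b ^ n) * w * (he R (b ^ n))⁻¹), mul_mem hw' (he_conj_mem R _ hw), ?_⟩
    rw [pow_succ, e, pow_succ, map_mul]
    group

/-- elements of `B` of order a power of three lie in `U` -/
theorem mem_gU_of_three {z : ↥(twistedG2 K (3 ^ m))} (hz : z ∈ R.gp.gB) {k : ℕ}
    (hk : z ^ 3 ^ k = 1) : z ∈ R.gp.gU := by
  obtain ⟨w, hw, b, rfl⟩ := exists_gB R hz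
  obtain ⟨w', hw', e⟩ := pow_gB R hw b (3 ^ k)
  rw [hk] at e
  have h1 : b ^ 3 ^ k = 1 :=
    (gB_ext R (one_mem _) hw' (b := 1) (by rw [map_one, mul_one, e])).2.symm
  have h2 : b = 1 := by
    have hd := orderOf_dvd_of_pow_eq_one h1
    have hd2 : orderOf b ∣ Fintype.card K - 1 := by
      have := orderOf_dvd_natCard b
      rwa [Nat.card_units, Nat.card_eq_fintype_card] at this
    exact orderOf_eq_one_iff.1 (Nat.eq_one_of_dvd_coprimes
      (((Nat.Prime.coprime_iff_not_dvd Nat.prime_three).2 (card_K_facts R).2.2).pow_left k) hd hd2)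
  rw [h2, map_one, mul_one]
  exact hw

theorem mem_gB_of_conj {g x : ↥(twistedG2 K (3 ^ m))} (hx : x ∈ R.gp.gU) (hx1 : x ≠ 1)
    (h : g * x * g⁻¹ ∈ R.gp.gU) : g ∈ R.gp.gB := by
  obtain ⟨n, -, -, hmove, -, -⟩ := moved_facts R.big
  by_contra hg
  exact hx1 (Subtype.ext ((hmove _ g.2 hg).1 _ (Subgroup.mem_inf.2 ⟨hx, x.2⟩) h))

theorem centralizer_le_gB {x : ↥(twistedG2 K (3 ^ m))} (hx : x ∈ R.gp.gU) (hx1 : x ≠ 1) :
    Subgroup.centralizer {x} ≤ R.gp.gB := fun g hg =>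
  mem_gB_of_conj R hx hx1 (by
    rw [Subgroup.mem_centralizer_singleton_iff.1 hg, mul_inv_cancel_right]; exact hx)

/-- a semisimple element of `B` of order greater than two is conjugate into the torus -/
theorem exists_conj_he {w : ↥(twistedG2 K (3 ^ m))} (hw : w ∈ R.gp.gU) {b : Kˣ} (hb : b * b ≠ 1) :
    ∃ u ∈ R.gp.gU, u⁻¹ * (w * he R b) * u = he R b := by
  classical
  let f : R.gp.gU → R.gp.gU := fun u => ⟨u * (he R b * (u : ↥(twistedG2 K (3 ^ m)))⁻¹ * (he R b)⁻¹),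
    mul_mem u.2 (he_conj_mem R b (inv_mem u.2))⟩
  have hinj : Function.Injective f := fun u v h => by
    have h' : (u : ↥(twistedG2 K (3 ^ m))) * (he R b * (u : ↥(twistedG2 K (3 ^ m)))⁻¹ * (he R b)⁻¹) =
        (v : ↥(twistedG2 K (3 ^ m))) * (he R b * (v : ↥(twistedG2 K (3 ^ m)))⁻¹ * (he R b)⁻¹) :=
      congrArg Subtype.val h
    have hc : ((v : ↥(twistedG2 K (3 ^ m)))⁻¹ * u) * he R b = he R b * ((v : ↥(twistedG2 K (3 ^ m)))⁻¹ * u) := by
      calc (v : ↥(twistedG2 K (3 ^ m)))⁻¹ * u * he R b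
          = (v : ↥(twistedG2 K (3 ^ m)))⁻¹ * ((u : ↥(twistedG2 K (3 ^ m))) *
            (he R b * (u : ↥(twistedG2 K (3 ^ m)))⁻¹ * (he R b)⁻¹)) * he R b * u := by group
        _ = _ := by rw [h']; group
    exact Subtype.ext (inv_mul_eq_one.1 (eq_one_of_commute R hb (mul_mem (inv_mem v.2) u.2) hc)).symm
  obtain ⟨u, hu⟩ := Finite.surjective_of_injective hinj ⟨w, hw⟩
  have hu' : (u : ↥(twistedG2 K (3 ^ m))) * (he R b * (u : ↥(twistedG2 K (3 ^ m)))⁻¹ * (he R b)⁻¹) = w :=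
    congrArg Subtype.val hu
  refine ⟨u, u.2, ?_⟩
  rw [← hu']
  group

/-- an involution of `B` is conjugate to the one in the torus -/
theorem exists_conj_ia {w : ↥(twistedG2 K (3 ^ m))} (hw : w ∈ R.gp.gU)
    (h2 : w * ia R * (w * ia R) = 1) : ∃ u ∈ R.gp.gU, u⁻¹ * (w * ia R) * u = ia R := by
  have hinv : (ia R)⁻¹ = ia R := inv_eq_of_mul_eq_one_right (ia_sq R)
  have h9 := gU_pow_nine R hw
  have hc : ia R * w * (ia R)⁻¹ = w⁻¹ := by
    rw [hinv]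
    exact eq_inv_of_mul_eq_one_right (by rw [← h2]; group)
  refine ⟨w ^ 5, pow_mem hw 5, ?_⟩
  have hc5 : ia R * w ^ 5 * (ia R)⁻¹ = (w ^ 5)⁻¹ := by rw [← conj_pow, hc, inv_pow]
  calc (w ^ 5)⁻¹ * (w * ia R) * w ^ 5 = (w ^ 5)⁻¹ * w * (ia R * w ^ 5 * (ia R)⁻¹) * ia R := by group
    _ = (w ^ 9)⁻¹ * ia R := by rw [hc5]; group
    _ = ia R := by rw [h9, inv_one, one_mul]

theorem gB_orderOf {z : ↥(twistedG2 K (3 ^ m))} (hz : z ∈ R.gp.gB) (h3 : 3 ∣ orderOf z) :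
    orderOf z = 3 ∨ orderOf z = 6 ∨ orderOf z = 9 := by
  obtain ⟨w, hw, b, rfl⟩ := exists_gB R hz
  set z := w * he R b
  have hb : b * b = 1 := by
    by_contra hb
    obtain ⟨u, -, hu⟩ := exists_conj_he R hw hb
    have e : orderOf z = orderOf b := by
      rw [← orderOf_injective (he R) (he_injective R), ← hu,
        show u⁻¹ * z * u = MulAut.conj u⁻¹ z by simp, MulEquiv.orderOf_eq]
    refine (card_K_facts R).2.2 ?_
    rw [← Nat.card_eq_fintype_card (α := K), ← Nat.card_units]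
    exact (e ▸ h3).trans (orderOf_dvd_natCard b)
  have hdiv : orderOf z ∣ 18 := by
    obtain ⟨w', hw', e⟩ := pow_gB R hw b 2
    rw [pow_two b, hb, map_one, mul_one] at e
    refine orderOf_dvd_of_pow_eq_one ?_
    rw [show 18 = 2 * 9 from rfl, pow_mul, e, gU_pow_nine R hw']
  have h18 : orderOf z ≠ 18 := by
    intro e
    have hy : z ^ 2 ∈ R.gp.gU :=
      mem_gU_of_three R (pow_mem hz 2) (k := 2) (by
        rw [← pow_mul, show 2 * 3 ^ 2 = 18 from rfl, ← e, pow_orderOf_eq_one])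
    obtain ⟨w', hw', b', hb'⟩ := exists_gB R (pow_mem hz 9)
    have hinv : z ^ 9 * z ^ 9 = 1 := by rw [← pow_add, show 9 + 9 = 18 from rfl, ← e, pow_orderOf_eq_one]
    have hne : z ^ 9 ≠ 1 := fun h => by
      have := Nat.le_of_dvd (by norm_num) (orderOf_dvd_of_pow_eq_one h); omega
    have hb'' : he R b' = ia R := by
      refine eq_ia_of_sq R (he_mem R b') ?_ ?_
      · obtain ⟨w'', hw'', e2⟩ := pow_gB R hw' b' 2
        rw [← hb', pow_two, hinv] at e2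
        have h4 := (gB_ext R (one_mem _) hw'' (b := 1) (b' := b' ^ 2) (by rw [map_one, mul_one]; exact e2)).2
        rw [← map_mul, ← pow_two b', ← h4, map_one]
      · intro h
        rw [h, mul_one] at hb'
        refine hne ?_
        calc z ^ 9 = (z ^ 9 * z ^ 9) ^ 5 * (z ^ 9)⁻¹ ^ 9 := by rw [← pow_add, ← pow_mul]; group
          _ = 1 := by rw [hinv, one_pow, one_mul, inv_pow, hb', gU_pow_nine R hw', inv_one]
    rw [hb''] at hb'
    obtain ⟨u, hu, hu'⟩ := exists_conj_ia R hw' (by rw [← hb']; exact hinv)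
    rw [← hb'] at hu'
    have hy' : u⁻¹ * z ^ 2 * u ∈ R.gp.gU := mul_mem (mul_mem (inv_mem hu) hy) hu
    obtain ⟨x, hx⟩ := conj_ia R hy' (by
      rw [← hu']
      group)
    have h6 : z ^ 6 = 1 := by
      have h3' : (u⁻¹ * z ^ 2 * u) ^ 3 = 1 := by rw [hx, pe_cube]; simp [pe_zero]
      rw [show u⁻¹ * z ^ 2 * u = MulAut.conj u⁻¹ (z ^ 2) by simp, ← map_pow] at h3'
      rw [show 6 = 2 * 3 from rfl, pow_mul]
      exact (map_eq_one_iff _ (MulEquiv.injective _)).1 h3'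
    have := Nat.le_of_dvd (by norm_num) (orderOf_dvd_of_pow_eq_one h6)
    omega
  have hle := Nat.le_of_dvd (by norm_num) hdiv
  generalize orderOf z = o at *
  interval_cases o <;> omega

/-- elements of order divisible by three are conjugate into `B` -/
theorem exists_conj_gB {g : ↥(twistedG2 K (3 ^ m))} (h3 : 3 ∣ orderOf g) :
    ∃ c, c⁻¹ * g * c ∈ R.gp.gB := by
  haveI := Fact.mk Nat.prime_three
  set y := g ^ (orderOf g / 3)
  have hy : orderOf y = 3 := orderOf_pow_orderOf_div (orderOf_pos g).ne' h3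
  have hpow : IsPGroup 3 R.gp.gU := by
    refine IsPGroup.of_card (n := 3 * (2 * m + 1)) ?_
    rw [card_gU_eq R, R.big, ← pow_mul, mul_comm]
  have hidx : ¬ 3 ∣ R.gp.gU.index := by
    have h := Subgroup.card_mul_index R.gp.gU
    rw [card_gU_eq R, (summary R.big).2.2.2.1, ← R.big, mul_assoc] at h
    rw [Nat.eq_of_mul_eq_mul_left (pow_pos Fintype.card_pos 3) h]
    intro hd
    rcases (Nat.Prime.dvd_mul Nat.prime_three).1 hd with hd | hd
    · exact (card_K_facts R).2.2 hd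
    · have : 3 ∣ Fintype.card K ^ 3 := dvd_pow (R.big ▸ dvd_pow_self 3 (Nat.succ_ne_zero _)) three_ne_zero
      omega
  obtain ⟨P, hP⟩ := (IsPGroup.of_card (n := 1) (show Nat.card (Subgroup.zpowers y) = 3 ^ 1 by
    rw [Nat.card_zpowers, hy, pow_one])).exists_le_sylow
  obtain ⟨c, hc⟩ := MulAction.exists_smul_eq ↥(twistedG2 K (3 ^ m)) (hpow.toSylow hidx) P
  refine ⟨c, ?_⟩
  have hyP : y ∈ ((c • hpow.toSylow hidx : Sylow 3 ↥(twistedG2 K (3 ^ m))) : Subgroup ↥(twistedG2 K (3 ^ m))) := by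
    rw [hc]; exact hP (Subgroup.mem_zpowers y)
  rw [Sylow.coe_subgroup_smul, Subgroup.mem_pointwise_smul_iff_inv_smul_mem] at hyP
  have hy' : c⁻¹ * y * c ∈ R.gp.gU := by simpa [MulAut.smul_def] using hyP
  refine centralizer_le_gB R hy' (fun h => ?_) (Subgroup.mem_centralizer_singleton_iff.2 ?_)
  · rw [show c⁻¹ * y * c = MulAut.conj c⁻¹ y by simp, map_eq_one_iff _ (MulEquiv.injective _)] at h
    rw [h, orderOf_one] at hy
    omega
  · rw [show c⁻¹ * y * c = MulAut.conj c⁻¹ y by simp, show c⁻¹ * g * c = MulAut.conj c⁻¹ g by simp,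
      ← map_mul, ← map_mul, (Commute.self_pow g _).eq]

theorem normalizer_gB : Subgroup.normalizer (R.gp.gB : Set ↥(twistedG2 K (3 ^ m))) = R.gp.gB := by
  refine le_antisymm (fun n hn => ?_) Subgroup.le_normalizer
  have hx : pe R 0 1 0 ∈ R.gp.gU := (mem_gU_iff R).2 ⟨_, _, _, rfl⟩
  refine mem_gB_of_conj R hx (fun h => one_ne_zero (α := K) (pe_inj R (h.trans (pe_zero R).symm)).2.1) ?_
  refine mem_gU_of_three R ((Subgroup.mem_normalizer_iff.1 hn _).1 (R.gp.gU_le_gB hx)) (k := 1) ?_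
  rw [← MulAut.conj_apply, ← map_pow, pow_one, pe_cube]
  simp [pe_zero]

theorem conj_three {a : ↥(twistedG2 K (3 ^ m))} (ha : a ∈ R.gp.gB) (h3 : 3 ∣ orderOf a)
    (c : ↥(twistedG2 K (3 ^ m))) (hc : c * a * c⁻¹ ∈ R.gp.gB) :
    c ∈ Subgroup.normalizer (R.gp.gB : Set ↥(twistedG2 K (3 ^ m))) := by
  rw [normalizer_gB R]
  have hy := orderOf_pow_orderOf_div (orderOf_pos a).ne' h3
  set y := a ^ (orderOf a / 3)
  have h31 : y ^ 3 ^ 1 = 1 := orderOf_dvd_iff_pow_eq_one.1 (by rw [hy]; rfl)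
  refine mem_gB_of_conj R (mem_gU_of_three R (pow_mem ha _) h31) (fun h => ?_)
    (mem_gU_of_three R ?_ (k := 1) ?_)
  · rw [show y = 1 from h, orderOf_one] at hy
    omega
  · rw [← conj_pow]
    exact pow_mem hc _
  · rw [← MulAut.conj_apply, ← map_pow, h31, map_one]

end CfsgLib.Lie.Chev.TG2
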