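import Cfsg.Agent.Lib.Lie.Chev.Tw.Ree.Tori.Orders

/-!
# ²G₂(q): the two cyclic tori of orders q ± √(3q) + 1, by counting
-/

set_option autoImplicit false
set_option maxRecDepth 100000

namespace CfsgLib.Lie.Chev.TG2

open Cfsg.Lie
open scoped MatrixGroups

variable {K : Type*} [Field K] [Fintype K] [CharP K 3] {θ : K ≃+* K} {m : ℕ} (R : Ree θ m)

set_option quotPrecheck false
local notation "GG" => ↥(twistedG2 K (3 ^ m))
local notation "qK" => Fintype.card K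
local notation "MK" => Fintype.card K ^ 2 - Fintype.card K + 1

theorem card_or {α : Type*} [Finite α] (P Q : α → Prop) (h : ∀ x, P x → Q x → False) :
    Nat.card {x // P x ∨ Q x} = Nat.card {x // P x} + Nat.card {x // Q x} := by
  classical
  haveI := Fintype.ofFinite α
  simp only [Nat.card_eq_fintype_card]
  exact Fintype.card_subtype_or_disjoint P Q (disjoint_iff_inf_le.2 fun x hx => h x hx.1 hx.2)

theorem card_and_not {α : Type*} [Finite α] (A P : α → Prop) :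
    Nat.card {a // A a ∧ P a} + Nat.card {a // A a ∧ ¬ P a} = Nat.card {a // A a} := by
  rw [← card_or _ _ fun x hx hx' => hx'.2 hx.2]
  exact Nat.card_congr (Equiv.subtypeEquivRight fun a => by tauto)

theorem conj_stable {G : Type*} [Group G] (P : ℕ → Prop) (g x : G) (h : P (orderOf x)) :
    P (orderOf (g * x * g⁻¹)) := by
  rwa [← MulAut.conj_apply, MulEquiv.orderOf_eq]

/-- a Hall class: the data of the centraliser of one element -/
structure HallClass (R : Ree θ m) (A : Subgroup GG) (d k : ℕ) : Prop where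
  data : TICount.TorusData A d (k * d)
  dvdM : d ∣ MK
  k6 : k ∣ 6
  cent : ∀ y ∈ A, y ≠ 1 → Subgroup.centralizer ({y} : Set GG) = A
  hall : Nat.Coprime d (MK / d)

include R in
theorem exists_class (hm : 1 ≤ m) {r : ℕ} (hr : r.Prime) (hd : r ∣ MK) :
    ∃ A d k, HallClass R A d k ∧ r ∣ d := by
  classical
  haveI := Fact.mk hr
  have hG : MK ∣ Nat.card GG := ⟨qK ^ 3 * (qK - 1) * (qK + 1), by rw [card_group R, (hall_identity R).2]; ring⟩
  obtain ⟨x, hx⟩ := exists_prime_orderOf_dvd_card' r (hd.trans hG)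
  obtain ⟨hcyc, hdvd, k, hk, hN⟩ := hall_facts R hm hr hd hx
  set A := Subgroup.centralizer ({x} : Set GG)
  have hxA : x ∈ A := Subgroup.mem_centralizer_singleton_iff.2 rfl
  have hcent : ∀ y ∈ A, y ≠ 1 → Subgroup.centralizer ({y} : Set GG) = A :=
    fun y hy hy1 => hall_centralizer R hm hr hd hx hy hy1
  refine ⟨A, Nat.card A, k, ⟨⟨hcyc, rfl, hN, ?_, ?_⟩, hdvd, hk, hcent, ?_⟩, hx ▸ Subgroup.orderOf_dvd_natCard _ hxA⟩
  · intro A₀ hA hne
    obtain ⟨⟨y, hy⟩, hy1⟩ := Subgroup.ne_bot_iff_exists_ne_one.1 hne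
    have hy1' : y ≠ 1 := fun h => hy1 (Subtype.ext h)
    have hC : Subgroup.centralizer (A₀ : Set GG) = A := by
      refine le_antisymm ?_ fun z hz => Subgroup.mem_centralizer_iff.2 fun w hw => ?_
      · rw [← hcent y (hA hy) hy1']
        exact Subgroup.centralizer_le (Set.singleton_subset_iff.2 hy)
      · haveI := hcyc
        letI := IsCyclic.commGroup (α := A)
        exact congrArg Subtype.val (mul_comm (⟨w, hA hw⟩ : A) ⟨z, hz⟩)
    refine le_antisymm ?_ fun g hg => mem_normalizer_of_conj_mem fun z hz => ?_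
    · have := normalizer_le_centralizer' A₀
      rwa [hC] at this
    · have hmem : g * z * g⁻¹ ∈ A := (Subgroup.mem_normalizer_iff.1 hg z).1 (hA hz)
      have e : Subgroup.zpowers (g * z * g⁻¹) = Subgroup.zpowers z := by
        refine TICount.cyclic_subgroup_unique hcyc (Subgroup.zpowers_le.2 hmem)
          (Subgroup.zpowers_le.2 (hA hz)) ?_
        rw [Nat.card_zpowers, Nat.card_zpowers, ← MulAut.conj_apply, MulEquiv.orderOf_eq]
      exact Subgroup.zpowers_le.2 hz (e ▸ Subgroup.mem_zpowers _)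
  · intro g hg hgo
    have h1 : orderOf g ≠ 1 := fun h => hg (orderOf_eq_one_iff.1 h)
    obtain ⟨s, hs, hso⟩ := Nat.exists_prime_and_dvd h1
    haveI := Fact.mk hs
    obtain ⟨h2, h3, -⟩ := hall_prime R hs ((hso.trans hgo).trans hdvd)
    obtain ⟨⟨y, hy⟩, hyo⟩ := exists_prime_orderOf_dvd_card' s (hso.trans hgo)
    have hyo' : orderOf y = s := (Subgroup.orderOf_coe (⟨y, hy⟩ : A)).trans hyo
    have hz := orderOf_pow_orderOf_div (orderOf_pos g).ne' hso
    set z := g ^ (orderOf g / s)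
    obtain ⟨c, hc⟩ := TICount.exists_conj_zpowers
      (sylow_cyclic R hm (by have := hs.two_le; omega)) hz hyo'
    have hzA : c⁻¹ * z * c ∈ A := Subgroup.zpowers_le.2 hy hc
    refine ⟨c, ?_⟩
    rw [← hcent _ hzA (fun h => by
      have e : orderOf (c⁻¹ * z * c) = s := by
        rw [show c⁻¹ * z * c = MulAut.conj c⁻¹ z by simp, MulEquiv.orderOf_eq, hz]
      rw [h, orderOf_one] at e
      exact hs.ne_one e.symm), Subgroup.mem_centralizer_singleton_iff]
    calc c⁻¹ * g * c * (c⁻¹ * z * c) = c⁻¹ * (g * z) * c := by group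
      _ = c⁻¹ * (z * g) * c := by rw [(Commute.self_pow g _).eq]
      _ = _ := by group
  · set d := Nat.card A
    by_contra hcop
    obtain ⟨s, hs, hsd, hse⟩ := Nat.Prime.not_coprime_iff_dvd.1 hcop
    haveI := Fact.mk hs
    obtain ⟨h2, h3, -⟩ := hall_prime R hs (hsd.trans hdvd)
    obtain ⟨⟨y, hy⟩, hyo⟩ := exists_prime_orderOf_dvd_card' s hsd
    have hyo' : orderOf y = s := (Subgroup.orderOf_coe (⟨y, hy⟩ : A)).trans hyo
    obtain ⟨S, hS⟩ := (IsPGroup.of_card (n := 1) (show Nat.card (Subgroup.zpowers y) = s ^ 1 by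
      rw [Nat.card_zpowers, hyo', pow_one])).exists_le_sylow
    haveI := sylow_cyclic R hm (by have := hs.two_le; omega) S
    have hSA : (S : Subgroup GG) ≤ A := by
      rw [← hcent y hy (fun h => by rw [h, orderOf_one] at hyo'; exact hs.ne_one hyo'.symm)]
      intro w hw
      letI := IsCyclic.commGroup (α := (S : Subgroup GG))
      exact Subgroup.mem_centralizer_singleton_iff.2 (congrArg Subtype.val
        (mul_comm (⟨w, hw⟩ : (S : Subgroup GG)) ⟨y, hS (Subgroup.mem_zpowers y)⟩))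
    have hmul : s ^ (d.factorization s + 1) ∣ MK := by
      rw [← Nat.mul_div_cancel' hdvd, pow_succ]
      exact Nat.mul_dvd_mul (Nat.ordProj_dvd d s) hse
    have hle : d.factorization s + 1 ≤ (Nat.card GG).factorization s :=
      (hs.pow_dvd_iff_le_factorization Nat.card_pos.ne').1 (hmul.trans hG)
    refine Nat.pow_succ_factorization_not_dvd (Nat.card_pos (α := A)).ne' hs ?_
    exact (pow_dvd_pow s hle).trans ((S.card_eq_multiplicity).symm.dvd.trans (Subgroup.card_dvd_of_le hSA))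

include R in
theorem class_count {A : Subgroup GG} {d k : ℕ} (H : HallClass R A d k) :
    k * d * Nat.card {g : GG // g ≠ 1 ∧ orderOf g ∣ d} = (d - 1) * Nat.card GG := by
  classical
  rw [TICount.card_conj A (fun g => g ≠ 1 ∧ orderOf g ∣ d)
    (fun g x hx => ⟨fun h => hx.1 (conj_eq_one_iff.1 h), conj_stable (· ∣ d) g x hx.2⟩)
    (fun x hx => H.data.cover x hx.1 hx.2) (fun a ha hP c hc => H.data.ti ha hP.1 hc)]
  have hA : Nat.card {a : GG // a ∈ A ∧ a ≠ 1 ∧ orderOf a ∣ d} = d - 1 := by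
    rw [Nat.card_congr (Equiv.subtypeEquivRight (q := fun a => a ∈ A ∧ a ≠ 1) fun a =>
      ⟨fun h => ⟨h.1, h.2.1⟩, fun h => ⟨h.1, h.2, H.data.card ▸ Subgroup.orderOf_dvd_natCard _ h.1⟩⟩)]
    haveI := Fintype.ofFinite A
    rw [← Nat.card_congr (Equiv.subtypeSubtypeEquivSubtypeInter (fun a => a ∈ A) (fun a => a ≠ 1)),
      Nat.card_congr (Equiv.subtypeEquivRight (q := fun a : A => a ≠ 1) fun a => not_congr OneMemClass.coe_eq_one),
      Nat.card_eq_fintype_card, Fintype.card_subtype_compl, Fintype.card_subtype_eq, ← Nat.card_eq_fintype_card,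
      H.data.card]
  rw [hA, ← mul_assoc, index_card H.data.normCard, mul_comm]

include R in
theorem class_absorb {A : Subgroup GG} {d k : ℕ} (H : HallClass R A d k) (hm : 1 ≤ m) {g : GG}
    (hg : g ≠ 1) {s : ℕ} (hs : s.Prime) (hsd : s ∣ d) (hso : s ∣ orderOf g) : orderOf g ∣ d := by
  have hz := orderOf_pow_orderOf_div (orderOf_pos g).ne' hso
  set z := g ^ (orderOf g / s)
  obtain ⟨c, hc⟩ := H.data.cover' z (hz ▸ hsd)
  have e : orderOf (c⁻¹ * z * c) = s := by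
    rw [show c⁻¹ * z * c = MulAut.conj c⁻¹ z by simp, MulEquiv.orderOf_eq, hz]
  have hgA : c⁻¹ * g * c ∈ A := by
    rw [← H.cent _ hc (fun h => by rw [h, orderOf_one] at e; exact hs.ne_one e.symm),
      Subgroup.mem_centralizer_singleton_iff]
    calc c⁻¹ * g * c * (c⁻¹ * z * c) = c⁻¹ * (g * z) * c := by group
      _ = c⁻¹ * (z * g) * c := by rw [(Commute.self_pow g _).eq]
      _ = _ := by group
  have := Subgroup.orderOf_dvd_natCard _ hgA
  rwa [H.data.card, show c⁻¹ * g * c = MulAut.conj c⁻¹ g by simp, MulEquiv.orderOf_eq] at this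

include R in
theorem class_eq {A₁ A₂ : Subgroup GG} {d₁ k₁ d₂ k₂ : ℕ} (H₁ : HallClass R A₁ d₁ k₁)
    (H₂ : HallClass R A₂ d₂ k₂) {s : ℕ} (hs : s.Prime) (h1 : s ∣ d₁) (h2 : s ∣ d₂) : d₂ = d₁ := by
  haveI := Fact.mk hs
  obtain ⟨⟨y, hy⟩, hyo⟩ := exists_prime_orderOf_dvd_card' (G := A₁) s (H₁.data.card.symm ▸ h1)
  have hyo' : orderOf y = s := (Subgroup.orderOf_coe (⟨y, hy⟩ : A₁)).trans hyo
  have hy1 : y ≠ 1 := fun h => by rw [h, orderOf_one] at hyo'; exact hs.ne_one hyo'.symm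
  obtain ⟨c, hc⟩ := H₂.data.cover y hy1 (hyo' ▸ h2)
  have hne : c⁻¹ * y * c ≠ 1 := by
    rw [show c⁻¹ * y * c = MulAut.conj c⁻¹ y by simp]
    exact fun h => hy1 ((map_eq_one_iff _ (MulEquiv.injective _)).1 h)
  have e : (Subgroup.centralizer ({y} : Set GG)).map (MulAut.conj c⁻¹).toMonoidHom =
      Subgroup.centralizer {c⁻¹ * y * c} := by
    ext z
    rw [Subgroup.mem_map_equiv, Subgroup.mem_centralizer_singleton_iff, Subgroup.mem_centralizer_singleton_iff,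
      MulAut.conj_symm_apply, inv_inv]
    constructor
    · intro h
      calc z * (c⁻¹ * y * c) = c⁻¹ * (c * z * c⁻¹ * y) * c := by group
        _ = c⁻¹ * (y * (c * z * c⁻¹)) * c := by rw [h]
        _ = c⁻¹ * y * c * z := by group
    · intro h
      calc c * z * c⁻¹ * y = c * (z * (c⁻¹ * y * c)) * c⁻¹ := by group
        _ = c * (c⁻¹ * y * c * z) * c⁻¹ := by rw [h]
        _ = y * (c * z * c⁻¹) := by group
  rw [← H₂.data.card, ← H₁.data.card, ← H₂.cent _ hc hne, ← H₁.cent y hy hy1, ← e,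
    Subgroup.card_map_of_injective (MulEquiv.injective _)]

theorem card_gH_big (hm : 1 ≤ m) :
    Nat.card {a : GG // a ∈ R.gp.gH ∧ (2 < orderOf a ∧ orderOf a ∣ qK - 1)} = qK - 3 := by
  classical
  have hneg : Nat.card {a : GG // a ∈ R.gp.gH ∧ ¬ (2 < orderOf a ∧ orderOf a ∣ qK - 1)} = 2 := by
    rw [Nat.card_congr (Equiv.subtypeEquivRight (q := fun a => a = 1 ∨ a = ia R) fun a => ?_), card_or _ _
      (fun x h h' => ia_ne_one R (h'.symm.trans h))]
    · simp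
    constructor
    · rintro ⟨ha, hn⟩
      have hd : orderOf a ∣ qK - 1 := card_gH R ▸ Subgroup.orderOf_dvd_natCard _ ha
      have hle : orderOf a ≤ 2 := not_lt.1 fun h => hn ⟨h, hd⟩
      have := orderOf_pos a
      rcases (show orderOf a = 1 ∨ orderOf a = 2 by omega) with e | e
      · exact Or.inl (orderOf_eq_one_iff.1 e)
      · exact Or.inr (eq_ia_of_sq R ha (by rw [← pow_two, ← e, pow_orderOf_eq_one])
          (fun h => by rw [h, orderOf_one] at e; omega))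
    · rintro (rfl | rfl)
      · exact ⟨one_mem _, by simp⟩
      · exact ⟨he_mem R _, fun h => absurd (Nat.le_of_dvd two_pos
          (orderOf_dvd_of_pow_eq_one ((pow_two _).trans (ia_sq R)))) (not_le.2 h.1)⟩
  have := card_and_not (fun a : GG => a ∈ R.gp.gH) (fun a => 2 < orderOf a ∧ orderOf a ∣ qK - 1)
  rw [hneg, show Nat.card {a : GG // a ∈ R.gp.gH} = qK - 1 from card_gH R] at this
  omega

theorem card_eT_big (hm : 1 ≤ m) :
    Nat.card {a : GG // a ∈ eT R ∧ (2 < orderOf a ∧ orderOf a ∣ (qK + 1) / 2)} = qK - 3 := by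
  classical
  obtain ⟨n, hn⟩ := card_K_eq R
  have hneg : Nat.card {a : GG // a ∈ eT R ∧ ¬ (2 < orderOf a ∧ orderOf a ∣ (qK + 1) / 2)} = 4 := by
    refine Eq.trans (Nat.card_congr (Equiv.subtypeEquivRight (q := fun a => a ∈ eE R) fun a => ?_)) (card_eE R)
    constructor
    · rintro ⟨ha, hn'⟩
      refine ⟨ha, ?_⟩
      have hd : orderOf a ∣ (qK + 1) / 2 := by
        rw [show (qK + 1) / 2 = 4 * n + 2 by omega]
        exact orderOf_dvd_of_pow_eq_one (eT_pow R ha hn)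
      have hle : orderOf a ≤ 2 := not_lt.1 fun h => hn' ⟨h, hd⟩
      have := orderOf_pos a
      rw [← pow_two]
      refine orderOf_dvd_iff_pow_eq_one.1 ?_
      rcases (show orderOf a = 1 ∨ orderOf a = 2 by omega) with e | e <;> rw [e]
      exact one_dvd 2
    · rintro ⟨ha, h2⟩
      exact ⟨ha, fun h => absurd (Nat.le_of_dvd two_pos
        (orderOf_dvd_of_pow_eq_one ((pow_two a).trans h2))) (not_le.2 h.1)⟩
  have := card_and_not (fun a : GG => a ∈ eT R) (fun a => 2 < orderOf a ∧ orderOf a ∣ (qK + 1) / 2)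
  rw [hneg, show Nat.card {a : GG // a ∈ eT R} = qK + 1 from card_eT R] at this
  omega

include R in
theorem three_not_dvd_M : ¬ 3 ∣ MK := fun h => (hall_prime R Nat.prime_three h).2.1 rfl

include R in
/-- the number of elements of order dividing `q² - q + 1` -/
theorem hall_total (hm : 1 ≤ m) :
    3 * (Nat.card {g : GG // g ≠ 1 ∧ orderOf g ∣ MK} : ℤ) =
      (qK : ℤ) ^ 4 * ((qK : ℤ) - 1) * ((qK : ℤ) + 1) * ((qK : ℤ) - 2) := by
  classical
  have hq := card_K_ge R hm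
  obtain ⟨n, hn⟩ := card_K_eq R
  obtain ⟨hM1, hM2⟩ := hall_identity R
  obtain ⟨a3, ha3⟩ := three_dvd_card R
  -- the five sets
  set PA : GG → Prop := fun g => 3 ∣ orderOf g
  set PB : GG → Prop := fun g => orderOf g = 2
  set PC : GG → Prop := fun g => 2 < orderOf g ∧ orderOf g ∣ qK - 1
  set PD : GG → Prop := fun g => 2 < orderOf g ∧ orderOf g ∣ (qK + 1) / 2
  set PE : GG → Prop := fun g => g ≠ 1 ∧ orderOf g ∣ MK
  have hAll : ∀ g : GG, g ≠ 1 ↔ (PA g ∨ PB g ∨ PC g ∨ PD g ∨ PE g) := by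
    intro g
    constructor
    · intro hg
      rcases order_cases R hm hg with h | h | h | h | h
      exacts [Or.inl h, Or.inr (Or.inl h), Or.inr (Or.inr (Or.inl h)), Or.inr (Or.inr (Or.inr (Or.inl h))),
        Or.inr (Or.inr (Or.inr (Or.inr ⟨hg, h⟩)))]
    · rintro (h | h | h | h | h) rfl
      all_goals simp [PA, PB, PC, PD, PE] at h
  have h3M := three_not_dvd_M R
  have hodd : qK ^ 2 % 2 = 1 := by rw [Nat.pow_mod]; simp [show qK % 2 = 1 by omega]
  have dA : ∀ g, PA g → (PB g ∨ PC g ∨ PD g ∨ PE g) → False := by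
    rintro g h (h' | ⟨-, h'⟩ | ⟨-, h'⟩ | ⟨-, h'⟩)
    · change orderOf g = 2 at h'; change 3 ∣ orderOf g at h; omega
    · have := h.trans h'; omega
    · have := h.trans h'; omega
    · exact h3M (h.trans h')
  have dB : ∀ g, PB g → (PC g ∨ PD g ∨ PE g) → False := by
    rintro g h (⟨h', -⟩ | ⟨h', -⟩ | ⟨-, h'⟩)
    · change orderOf g = 2 at h; omega
    · change orderOf g = 2 at h; omega
    · exact (hall_prime R Nat.prime_two ((show orderOf g = 2 from h) ▸ h')).1 rfl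
  have key : ∀ {o : ℕ}, o ∣ MK → o ∣ qK ∨ o ∣ qK - 1 ∨ o ∣ qK + 1 → o ∣ 3 := by
    intro o hoM hoq
    have hsq : qK ^ 2 = qK * qK := pow_two _
    rcases hoq with h | h | h
    · refine Nat.dvd_trans ?_ (one_dvd 3)
      have : o ∣ MK + qK := Nat.dvd_add hoM h
      rw [hM1] at this
      exact (Nat.dvd_add_right (hsq ▸ h.mul_right qK)).1 this
    · refine Nat.dvd_trans ?_ (one_dvd 3)
      have e : qK ^ 2 - qK = (qK - 1) * qK := by rw [Nat.sub_mul, one_mul, hsq]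
      exact (Nat.dvd_add_right (e ▸ h.mul_right qK)).1 hoM
    · have e : MK = (qK + 1) * (qK - 2) + 3 := by
        zify [Nat.le_self_pow two_ne_zero qK, show 2 ≤ qK by omega]
        ring
      rw [e] at hoM
      exact (Nat.dvd_add_right (h.mul_right _)).1 hoM
  have small : ∀ g : GG, PE g → orderOf g ∣ 3 → False := fun g hE h => by
    rcases (Nat.dvd_prime Nat.prime_three).1 h with e | e
    · exact hE.1 (orderOf_eq_one_iff.1 e)
    · exact h3M (e ▸ hE.2)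
  have dC : ∀ g, PC g → (PD g ∨ PE g) → False := by
    rintro g ⟨h2, h⟩ (⟨-, h'⟩ | hE)
    · have h4 : orderOf g ∣ qK + 1 := h'.trans (Nat.div_dvd_of_dvd (by omega))
      have := Nat.le_of_dvd two_pos ((Nat.dvd_add_right h).1 (show orderOf g ∣ qK - 1 + 2 by
        rwa [show qK - 1 + 2 = qK + 1 by omega]))
      omega
    · exact small g hE (key hE.2 (Or.inr (Or.inl h)))
  have dD : ∀ g, PD g → PE g → False := fun g h hE =>
    small g hE (key hE.2 (Or.inr (Or.inr (h.2.trans (Nat.div_dvd_of_dvd (by omega))))))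
  have hsum : Nat.card GG = 1 + (Nat.card {g // PA g} + (Nat.card {g // PB g} + (Nat.card {g // PC g} +
      (Nat.card {g // PD g} + Nat.card {g // PE g})))) := by
    rw [← card_or _ _ dD, ← card_or _ _ dC, ← card_or _ _ dB, ← card_or _ _ dA,
      ← Nat.card_congr (Equiv.subtypeEquivRight hAll)]
    haveI := Fintype.ofFinite GG
    have h1 : 0 < Fintype.card GG := Fintype.card_pos
    simp only [Nat.card_eq_fintype_card, Fintype.card_subtype_compl, Fintype.card_subtype_eq]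
    omega
  -- their sizes
  have hA : Nat.card {g // PA g} = (qK ^ 3 + 1) * ((qK ^ 2 - 1) + 2 * (qK ^ 2 * (qK - 1))) := by
    rw [TICount.card_conj R.gp.gB PA (fun g x hx => conj_stable (3 ∣ ·) g x hx)
      (fun x hx => exists_conj_gB R hx) (fun a ha hP c hc => conj_three R ha hP c hc), normalizer_gB R]
    have hcard : Nat.card {z : GG // z ∈ R.gp.gB ∧ PA z} = (qK ^ 2 - 1) + 2 * (qK ^ 2 * (qK - 1)) := by
      have e : ∀ z, (z ∈ R.gp.gB ∧ PA z) ↔ ((z ∈ R.gp.gB ∧ orderOf z = 3) ∨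
          ((z ∈ R.gp.gB ∧ orderOf z = 6) ∨ (z ∈ R.gp.gB ∧ orderOf z = 9))) := fun z => by
        constructor
        · rintro ⟨hz, h⟩
          rcases gB_orderOf R hz h with h | h | h
          exacts [Or.inl ⟨hz, h⟩, Or.inr (Or.inl ⟨hz, h⟩), Or.inr (Or.inr ⟨hz, h⟩)]
        · rintro (⟨hz, h⟩ | ⟨hz, h⟩ | ⟨hz, h⟩) <;> exact ⟨hz, (show 3 ∣ _ by norm_num : 3 ∣ _).trans h.symm.dvd⟩
      rw [Nat.card_congr (Equiv.subtypeEquivRight e), card_or, card_or, card_gB_three R, card_gB_six R,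
        card_gB_nine R, two_mul]
      · exact fun x h h' => by have := h.2.symm.trans h'.2; omega
      · rintro x h (h' | h') <;> (have := h.2.symm.trans h'.2; omega)
    rw [hcard]
    congr 1
    have hi := index_card (card_gB R)
    rw [card_group R] at hi
    exact Nat.eq_of_mul_eq_mul_left (Nat.mul_pos (pow_pos (by omega) 3) (by omega)) hi
  have hB : Nat.card {g // PB g} = qK ^ 2 * MK := card_invol R
  have hC : 2 * Nat.card {g // PC g} = qK ^ 3 * (qK ^ 3 + 1) * (qK - 3) := by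
    rw [count_split R hm PC (fun g x hx => ⟨conj_stable (2 < ·) g x hx.1, conj_stable (· ∣ qK - 1) g x hx.2⟩)
      (fun x hx => hx), card_gH_big R hm]
  have hD : 6 * Nat.card {g // PD g} = qK ^ 3 * (qK - 1) * MK * (qK - 3) := by
    rw [count_ell R hm PD (fun g x hx => ⟨conj_stable (2 < ·) g x hx.1,
      conj_stable (· ∣ (qK + 1) / 2) g x hx.2⟩) (fun x hx => hx), card_eT_big R hm]
  rw [card_group R] at hsum
  generalize Nat.card {g // PA g} = a at hsum hA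
  generalize Nat.card {g // PB g} = b at hsum hB
  generalize Nat.card {g // PC g} = c at hsum hC
  generalize Nat.card {g // PD g} = d at hsum hD
  show 3 * ((Nat.card {g // PE g} : ℕ) : ℤ) = _
  generalize Nat.card {g // PE g} = e at hsum ⊢
  generalize qK = q at hsum hA hB hC hD hq hM1 hM2 ⊢
  zify [show 1 ≤ q by omega, show 3 ≤ q by omega, Nat.le_self_pow two_ne_zero q,
    Nat.one_le_pow 2 q (by omega)] at hsum hA hB hC hD
  rw [hA, hB] at hsum
  refine mul_left_cancel₀ (show (2 : ℤ) ≠ 0 by norm_num) ?_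
  linear_combination -6 * hsum - 3 * hC - hD

include R in
theorem sqrt_identity :
    3 ^ (m + 1) ≤ qK ∧ (qK - 3 ^ (m + 1) + 1) * (qK + 3 ^ (m + 1) + 1) = MK ∧
      (qK - 3 ^ (m + 1) + 1) + (qK + 3 ^ (m + 1) + 1) = 2 * qK + 2 := by
  have hle : 3 ^ (m + 1) ≤ qK := R.big ▸ Nat.pow_le_pow_right (by norm_num) (by omega)
  have hsq : 3 ^ (m + 1) * 3 ^ (m + 1) = 3 * qK := by rw [R.big, ← pow_add, ← pow_succ']; ring_nf
  refine ⟨hle, ?_, by omega⟩
  obtain ⟨h1, -⟩ := hall_identity R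
  generalize qK = q at *
  generalize 3 ^ (m + 1) = s at *
  zify [hle, Nat.le_self_pow two_ne_zero q] at h1 hsq ⊢
  linear_combination -hsq

include R in
/-- the two Hall tori -/
theorem exists_hall (hm : 1 ≤ m) :
    (∃ A, HallClass R A (qK - 3 ^ (m + 1) + 1) 6) ∧ ∃ B, HallClass R B (qK + 3 ^ (m + 1) + 1) 6 := by
  classical
  have hq := card_K_ge R hm
  obtain ⟨hM1, hM2⟩ := hall_identity R
  obtain ⟨hs1, hs2, hs3⟩ := sqrt_identity R
  have hS := hall_total R hm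
  have hG := card_group R
  have hsq : qK ^ 2 = qK * qK := pow_two _
  have hM2' : 1 < MK := by
    have : qK * 2 ≤ qK * qK := Nat.mul_le_mul_left _ (by omega)
    omega
  obtain ⟨r₁, hr₁, hr₁d⟩ := Nat.exists_prime_and_dvd hM2'.ne'
  obtain ⟨A₁, d₁, k₁, H₁, hd₁⟩ := exists_class R hm hr₁ hr₁d
  set S := Nat.card {g : GG // g ≠ 1 ∧ orderOf g ∣ MK}
  set G := Nat.card GG
  have hGz : (G : ℤ) = (qK : ℤ) ^ 3 * ((qK : ℤ) - 1) * (((qK : ℤ) + 1) * ((qK : ℤ) ^ 2 - qK + 1)) := by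
    rw [hG, hM2]
    push_cast [Nat.cast_sub (show 1 ≤ qK by omega), Nat.cast_sub (Nat.le_self_pow two_ne_zero qK)]
    ring
  have hrel : 3 * (S : ℤ) * ((qK : ℤ) ^ 2 - qK + 1) = G * ((qK : ℤ) * ((qK : ℤ) - 2)) := by
    rw [hGz]
    linear_combination ((qK : ℤ) ^ 2 - qK + 1) * hS
  have hG0 : (0 : ℤ) < G := by exact_mod_cast (Nat.card_pos (α := GG))
  have hMz : ((MK : ℕ) : ℤ) = (qK : ℤ) ^ 2 - qK + 1 := by
    push_cast [Nat.cast_sub (Nat.le_self_pow two_ne_zero qK)]; ring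
  have hq' : (27 : ℤ) ≤ qK := by exact_mod_cast hq
  have big : ∀ {d k : ℕ}, 1 < d → d ∣ MK → k ∣ 6 → 7 ≤ d := by
    intro d k hd hdM _
    obtain ⟨s, hs, hsd⟩ := Nat.exists_prime_and_dvd hd.ne'
    obtain ⟨h2, h3, -⟩ := hall_prime R hs (hsd.trans hdM)
    have hs5 : s ≠ 5 := by
      rintro rfl
      have key : ∀ x : ZMod 5, x ^ 2 - x + 1 ≠ 0 := by decide
      refine key (qK : ZMod 5) ?_
      have := (ZMod.natCast_eq_zero_iff MK 5).2 (hsd.trans hdM)
      rwa [Nat.cast_add, Nat.cast_sub (Nat.le_self_pow two_ne_zero _), Nat.cast_pow, Nat.cast_one] at this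
    have h7 : 7 ≤ s := by
      have := hs.two_le
      by_contra hlt
      interval_cases s <;> first | omega | (norm_num at hs)
    exact h7.trans (Nat.le_of_dvd (by omega) hsd)
  have hcnt : ∀ {A : Subgroup GG} {d k : ℕ}, HallClass R A d k → 1 < d →
      (k : ℤ) * d * (Nat.card {g : GG // g ≠ 1 ∧ orderOf g ∣ d} : ℤ) = ((d : ℤ) - 1) * G ∧
      7 ≤ d ∧ (G : ℤ) ≤ 7 * (Nat.card {g : GG // g ≠ 1 ∧ orderOf g ∣ d} : ℤ) ∧
      (k ≤ 3 → 2 * (G : ℤ) ≤ 7 * (Nat.card {g : GG // g ≠ 1 ∧ orderOf g ∣ d} : ℤ)) := by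
    intro A d k H hd
    have h := class_count R H
    have hz : (k : ℤ) * d * (Nat.card {g : GG // g ≠ 1 ∧ orderOf g ∣ d} : ℤ) = ((d : ℤ) - 1) * G := by
      have := congrArg (fun n : ℕ => (n : ℤ)) h
      push_cast [Nat.cast_sub hd.le] at this
      linarith
    have h7 := big hd H.dvdM H.k6
    refine ⟨hz, h7, ?_, fun hk3 => ?_⟩
    · have hk6 : (k : ℤ) ≤ 6 := by exact_mod_cast Nat.le_of_dvd (by norm_num) H.k6
      have h7' : (7 : ℤ) ≤ d := by exact_mod_cast h7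
      have hT0 : (0 : ℤ) ≤ (Nat.card {g : GG // g ≠ 1 ∧ orderOf g ∣ d} : ℤ) := Int.natCast_nonneg _
      generalize (Nat.card {g : GG // g ≠ 1 ∧ orderOf g ∣ d} : ℤ) = T at hz hT0 ⊢
      have hT : (k : ℤ) * d * T ≤ 6 * d * T := by gcongr
      nlinarith
    · have hk6 : (k : ℤ) ≤ 3 := by exact_mod_cast hk3
      have h7' : (7 : ℤ) ≤ d := by exact_mod_cast h7
      have hT0 : (0 : ℤ) ≤ (Nat.card {g : GG // g ≠ 1 ∧ orderOf g ∣ d} : ℤ) := Int.natCast_nonneg _
      generalize (Nat.card {g : GG // g ≠ 1 ∧ orderOf g ∣ d} : ℤ) = T at hz hT0 ⊢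
      have hT : (k : ℤ) * d * T ≤ 3 * d * T := by gcongr
      nlinarith
  have hd₁1 : 1 < d₁ := lt_of_lt_of_le hr₁.one_lt (Nat.le_of_dvd (Nat.pos_of_ne_zero fun h => by
    have := H₁.dvdM; rw [h, zero_dvd_iff] at this; omega) hd₁)
  obtain ⟨z₁, h7₁, hG₁, hG₁'⟩ := hcnt H₁ hd₁1
  set e₁ := MK / d₁
  have hM₁ : d₁ * e₁ = MK := Nat.mul_div_cancel' H₁.dvdM
  rcases eq_or_ne e₁ 1 with he₁ | he₁
  · exfalso
    rw [he₁, mul_one] at hM₁
    rw [hM₁] at z₁
    rw [hMz] at z₁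
    change _ * (S : ℤ) = _ at z₁
    have h6 := H₁.k6
    have hk6 := Nat.le_of_dvd (by norm_num) h6
    have h3S : (k₁ : ℤ) * ((qK : ℤ) * ((qK : ℤ) - 2)) = 3 * ((qK : ℤ) ^ 2 - qK) := by
      refine mul_right_cancel₀ hG0.ne' ?_
      linear_combination 3 * z₁ - (k₁ : ℤ) * hrel
    interval_cases k₁ <;> push_cast at h3S <;> nlinarith
  obtain ⟨r₂, hr₂, hr₂e⟩ := Nat.exists_prime_and_dvd he₁
  obtain ⟨A₂, d₂, k₂, H₂, hd₂⟩ := exists_class R hm hr₂ (hr₂e.trans (hM₁ ▸ dvd_mul_left _ _))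
  have hcop : Nat.Coprime d₁ d₂ := by
    by_contra h
    obtain ⟨s, hs, h1, h2⟩ := Nat.Prime.not_coprime_iff_dvd.1 h
    have e := class_eq R H₁ H₂ hs h1 h2
    exact hr₂.not_dvd_one (H₁.hall ▸ Nat.dvd_gcd (e ▸ hd₂) hr₂e)
  have hd₂1 : 1 < d₂ := lt_of_lt_of_le hr₂.one_lt (Nat.le_of_dvd (Nat.pos_of_ne_zero fun h => by
    have := H₂.dvdM; rw [h, zero_dvd_iff] at this; omega) hd₂)
  obtain ⟨z₂, h7₂, hG₂, hG₂'⟩ := hcnt H₂ hd₂1
  set T₁ := Nat.card {g : GG // g ≠ 1 ∧ orderOf g ∣ d₁}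
  set T₂ := Nat.card {g : GG // g ≠ 1 ∧ orderOf g ∣ d₂}
  have h12 : d₁ * d₂ ∣ MK := hcop.mul_dvd_of_dvd_of_dvd H₁.dvdM H₂.dvdM
  have hdis : ∀ g : GG, (g ≠ 1 ∧ orderOf g ∣ d₁) → (g ≠ 1 ∧ orderOf g ∣ d₂) → False := fun g h h' =>
    h.1 (orderOf_eq_one_iff.1 (Nat.eq_one_of_dvd_coprimes hcop h.2 h'.2))
  set e₂ := MK / (d₁ * d₂)
  have hM₂ : d₁ * d₂ * e₂ = MK := Nat.mul_div_cancel' h12
  have hlow : T₁ + T₂ ≤ S := by
    rw [← card_or _ _ hdis]
    exact Nat.card_le_card_of_injective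
      (fun g => ⟨g.1, g.2.elim (·.1) (·.1), g.2.elim (fun h => h.2.trans H₁.dvdM) (fun h => h.2.trans H₂.dvdM)⟩)
      (fun a b h => Subtype.ext (congrArg (fun x : {g : GG // g ≠ 1 ∧ orderOf g ∣ MK} => x.1) h))
  have hbound : 3 * (S : ℤ) * 7 < 9 * G := by
    nlinarith [hrel]
  have he₂ : e₂ = 1 := by
    by_contra he₂
    obtain ⟨r₃, hr₃, hr₃e⟩ := Nat.exists_prime_and_dvd he₂
    obtain ⟨A₃, d₃, k₃, H₃, hd₃⟩ := exists_class R hm hr₃ (hr₃e.trans (hM₂ ▸ dvd_mul_left _ _))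
    have hd₃1 : 1 < d₃ := lt_of_lt_of_le hr₃.one_lt (Nat.le_of_dvd (Nat.pos_of_ne_zero fun h => by
      have := H₃.dvdM; rw [h, zero_dvd_iff] at this; omega) hd₃)
    have hc : ∀ {A : Subgroup GG} {d k : ℕ}, HallClass R A d k → d * r₃ ∣ MK → Nat.Coprime d d₃ := by
      intro A d k H hdr
      by_contra h
      obtain ⟨s, hs, h1, h2⟩ := Nat.Prime.not_coprime_iff_dvd.1 h
      have e := class_eq R H H₃ hs h1 h2
      have he : r₃ ∣ MK / d := Nat.dvd_div_of_mul_dvd hdr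
      exact hr₃.not_dvd_one (H.hall ▸ Nat.dvd_gcd (e ▸ hd₃) he)
    have hc1 := hc H₁ ((Nat.mul_dvd_mul (dvd_mul_right d₁ d₂) hr₃e).trans hM₂.dvd)
    have hc2 := hc H₂ ((Nat.mul_dvd_mul (dvd_mul_left d₂ d₁) hr₃e).trans hM₂.dvd)
    obtain ⟨-, -, hG₃, -⟩ := hcnt H₃ hd₃1
    have h3 : T₁ + T₂ + Nat.card {g : GG // g ≠ 1 ∧ orderOf g ∣ d₃} ≤ S := by
      rw [← card_or _ _ hdis, ← card_or]
      · exact Nat.card_le_card_of_injective
          (fun g => ⟨g.1, g.2.elim (·.elim (·.1) (·.1)) (·.1),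
            g.2.elim (·.elim (fun h => h.2.trans H₁.dvdM) (fun h => h.2.trans H₂.dvdM)) (fun h => h.2.trans H₃.dvdM)⟩)
          (fun a b h => Subtype.ext (congrArg (fun x : {g : GG // g ≠ 1 ∧ orderOf g ∣ MK} => x.1) h))
      · rintro g (h | h) h'
        · exact h.1 (orderOf_eq_one_iff.1 (Nat.eq_one_of_dvd_coprimes hc1 h.2 h'.2))
        · exact h.1 (orderOf_eq_one_iff.1 (Nat.eq_one_of_dvd_coprimes hc2 h.2 h'.2))
    have h3' : (T₁ : ℤ) + T₂ + (Nat.card {g : GG // g ≠ 1 ∧ orderOf g ∣ d₃} : ℤ) ≤ S := by exact_mod_cast h3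
    linarith
  rw [he₂, mul_one] at hM₂
  have hST : S = T₁ + T₂ := by
    rw [← card_or _ _ hdis]
    refine Nat.card_congr (Equiv.subtypeEquivRight fun g => ⟨fun h => ?_, ?_⟩)
    · obtain ⟨s, hs, hso⟩ := Nat.exists_prime_and_dvd (fun e => h.1 (orderOf_eq_one_iff.1 e))
      rcases (Nat.Prime.dvd_mul hs).1 (hM₂ ▸ hso.trans h.2) with h' | h'
      · exact Or.inl ⟨h.1, class_absorb R H₁ hm h.1 hs h' hso⟩
      · exact Or.inr ⟨h.1, class_absorb R H₂ hm h.1 hs h' hso⟩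
    · rintro (h | h)
      exacts [⟨h.1, h.2.trans H₁.dvdM⟩, ⟨h.1, h.2.trans H₂.dvdM⟩]
  have hSz : (S : ℤ) = T₁ + T₂ := by exact_mod_cast hST
  have six : ∀ {k : ℕ}, k ∣ 6 → ¬ k ≤ 3 → k = 6 := by
    intro k h hk
    have := Nat.le_of_dvd (by norm_num) h
    interval_cases k <;> omega
  obtain rfl : k₁ = 6 := six H₁.k6 fun h => by have := hG₁' h; linarith
  obtain rfl : k₂ = 6 := six H₂.k6 fun h => by have := hG₂' h; linarith
  have hMd : (d₁ : ℤ) * d₂ = (qK : ℤ) ^ 2 - qK + 1 := by rw [← hMz, ← hM₂]; push_cast; ring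
  have hadd : (d₁ : ℤ) + d₂ = 2 * qK + 2 := by
    refine mul_right_cancel₀ hG0.ne' ?_
    push_cast at z₁ z₂
    linear_combination (d₂ : ℤ) * z₁ + (d₁ : ℤ) * z₂ + (2 * (G : ℤ) - 6 * (S : ℤ)) * hMd
      - 2 * hrel + 6 * (d₁ : ℤ) * d₂ * hSz
  have hs2z := congrArg (fun n : ℕ => (n : ℤ)) hs2
  have hs3z := congrArg (fun n : ℕ => (n : ℤ)) hs3
  simp only [Nat.cast_mul, Nat.cast_add (qK - 3 ^ (m + 1) + 1), Nat.cast_ofNat, hMz] at hs2z hs3z
  have hroot : ((d₁ : ℤ) - ((qK - 3 ^ (m + 1) + 1 : ℕ) : ℤ)) * ((d₁ : ℤ) - ((qK + 3 ^ (m + 1) + 1 : ℕ) : ℤ)) = 0 := by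
    push_cast at hs3z ⊢
    push_cast at hs2z
    linear_combination (d₁ : ℤ) * hadd - hMd + hs2z - (d₁ : ℤ) * hs3z
  rcases mul_eq_zero.1 hroot with h | h
  · have e1 : d₁ = qK - 3 ^ (m + 1) + 1 := by exact_mod_cast (sub_eq_zero.1 h)
    have e2 : d₂ = qK + 3 ^ (m + 1) + 1 := by
      have hd : d₁ + d₂ = 2 * qK + 2 := by exact_mod_cast hadd
      omega
    exact ⟨⟨A₁, e1 ▸ H₁⟩, A₂, e2 ▸ H₂⟩
  · have e1 : d₁ = qK + 3 ^ (m + 1) + 1 := by exact_mod_cast (sub_eq_zero.1 h)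
    have e2 : d₂ = qK - 3 ^ (m + 1) + 1 := by
      have hd : d₁ + d₂ = 2 * qK + 2 := by exact_mod_cast hadd
      omega
    exact ⟨⟨A₂, e2 ▸ H₂⟩, A₁, e1 ▸ H₁⟩

end CfsgLib.Lie.Chev.TG2
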