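import Cfsg.Agent.Lib.Lie.Chev.Tw.Ree.Tori.Invol
import Cfsg.Agent.Lib.Lie.Chev.Tw.Ree.SylowOdd
import Cfsg.Agent.Lib.Classical.SL2EllTorus
import Cfsg.Agent.Lib.Coprime.Action
import Mathlib.GroupTheory.Transfer

/-!
# ²G₂(q): the torus of order (q + 1)/4 and its centraliser
-/

set_option autoImplicit false
set_option maxRecDepth 100000

namespace CfsgLib.Lie.Chev.TG2

open Cfsg.Lie
open CfsgLib.PSL2Two (π)
open scoped MatrixGroups

variable {K : Type*} [Field K] [Fintype K] [CharP K 3] {θ : K ≃+* K} {m : ℕ} (R : Ree θ m)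

local notation "S2" => Matrix.SpecialLinearGroup (Fin 2) K
local notation "P2" => Matrix.ProjectiveSpecialLinearGroup (Fin 2) K
local notation "Z2" => Multiplicative (ZMod 2)

/-- a generator of the non-split torus of `SL(2, q)` -/
noncomputable def ellGen (K : Type*) [Field K] [Fintype K] : Matrix.SpecialLinearGroup (Fin 2) K :=
  (Classical.PSL2Spectrum.exists_order_add_one (F := K)).choose

theorem z2_sq : ∀ a : Multiplicative (ZMod 2), a ^ 2 = 1 := by decide

theorem orderOf_ellGen : orderOf (ellGen K) = Fintype.card K + 1 :=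
  (Classical.PSL2Spectrum.exists_order_add_one (F := K)).choose_spec

theorem card_odd : Odd (Fintype.card K) :=
  Nat.odd_iff.2 (FiniteField.odd_card_of_char_ne_two (by rw [ringChar.eq K 3]; norm_num))

include R in
theorem card_K_eq : ∃ n, Fintype.card K = 8 * n + 3 :=
  ⟨Fintype.card K / 8, by have := (card_K_facts R).2.1; omega⟩

theorem ell_scalar {k : ℕ} (h : Char.TwoClasses.IsScalar2 (ellGen K ^ k).1) : π (ellGen K ^ k) = 1 := by
  classical
  rcases Char.TwoChars.scalar_cases h with h | h <;> rw [h, CfsgLib.PSL2Two.π_eq_one_iff]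
  · exact Or.inl rfl
  · exact Or.inr Char.TwoChars.negS_val

theorem π_neg_cases {g h : S2} (e : π g = π h) : g.1 = h.1 ∨ g.1 = -h.1 := by
  have h1 : π (g * h⁻¹) = 1 := by rw [map_mul, map_inv, e, mul_inv_cancel]
  have h2 : g = g * h⁻¹ * h := by group
  rw [CfsgLib.PSL2Two.π_eq_one_iff] at h1
  rcases h1 with h1 | h1 <;> rw [h2, Matrix.SpecialLinearGroup.coe_mul, h1] <;> simp

/-- commuting in the quotient with a torus element of order above two gives a torus element -/
theorem ell_centralizer {g : S2} {k : ℕ} (hne : π (ellGen K) ^ (2 * k) ≠ 1)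
    (hc : π g * π (ellGen K) ^ k = π (ellGen K) ^ k * π g) : π g ∈ Subgroup.zpowers (π (ellGen K)) := by
  classical
  rw [← map_pow, ← map_mul, ← map_mul] at hc
  have h2 : g * ellGen K ^ (2 * k) = ellGen K ^ (2 * k) * g := by
    refine Subtype.ext ?_
    rw [mul_comm 2 k, pow_mul, pow_two]
    simp only [Matrix.SpecialLinearGroup.coe_mul]
    rcases π_neg_cases hc with h | h <;> rw [Matrix.SpecialLinearGroup.coe_mul, Matrix.SpecialLinearGroup.coe_mul] at h
    · rw [← mul_assoc, h, mul_assoc, h, ← mul_assoc]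
    · rw [← mul_assoc, h, neg_mul, mul_assoc, h, mul_neg, neg_neg, ← mul_assoc]
  have hm : g ∈ Subgroup.zpowers (ellGen K) := by
    rw [← Classical.SL2EllTorus.centralizer_elem (card_odd (K := K)) orderOf_ellGen
      (pow_mem (Subgroup.mem_zpowers _) (2 * k)) (fun h => hne (by rw [← map_pow]; exact ell_scalar h)),
      Subgroup.mem_centralizer_singleton_iff]
    exact h2
  obtain ⟨j, rfl⟩ := hm
  exact ⟨j, (map_zpow (π : S2 →* P2) _ j).symm⟩

/-- the abelian subgroup of order `q + 1` -/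
noncomputable def eT (R : Ree θ m) : Subgroup ↥(twistedG2 K (3 ^ m)) :=
  ((⊤ : Subgroup Z2).prod (Subgroup.zpowers (π (ellGen K)))).map (zHom R)

theorem mem_eT_iff {x : ↥(twistedG2 K (3 ^ m))} :
    x ∈ eT R ↔ ∃ (n : Z2) (k : ℕ), zHom R (n, π (ellGen K) ^ k) = x := by
  constructor
  · rintro ⟨⟨n, a⟩, h, rfl⟩
    obtain ⟨k, hk⟩ := mem_powers_iff_mem_zpowers.2 (Subgroup.mem_prod.1 h).2
    exact ⟨n, k, congrArg (fun a => zHom R (n, a)) hk⟩
  · rintro ⟨n, k, rfl⟩
    exact ⟨(n, _), Subgroup.mem_prod.2 ⟨trivial, pow_mem (Subgroup.mem_zpowers _) k⟩, rfl⟩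

include R in
theorem orderOf_π_ell {n : ℕ} (hn : Fintype.card K = 8 * n + 3) : orderOf (π (ellGen K)) = 4 * n + 2 := by
  classical
  exact Classical.PSL2Spectrum.orderOf_π_half (by omega) (k := 4 * n + 2) (by rw [orderOf_ellGen]; omega)

theorem card_eT : Nat.card (eT R) = Fintype.card K + 1 := by
  obtain ⟨n, hn⟩ := card_K_eq R
  rw [eT, ← Nat.card_congr (Subgroup.equivMapOfInjective _ _ (zHom_injective R)).toEquiv,
    Nat.card_congr (Subgroup.prodEquiv _ _).toEquiv, Nat.card_prod, Subgroup.card_top, Nat.card_zpowers,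
    orderOf_π_ell R hn, show Nat.card Z2 = 2 by simp, hn]
  ring

theorem eT_comm {x y : ↥(twistedG2 K (3 ^ m))} (hx : x ∈ eT R) (hy : y ∈ eT R) : x * y = y * x := by
  obtain ⟨n, k, rfl⟩ := (mem_eT_iff R).1 hx
  obtain ⟨n', k', rfl⟩ := (mem_eT_iff R).1 hy
  rw [← map_mul, ← map_mul, Prod.mk_mul_mk, Prod.mk_mul_mk, mul_comm n, ← pow_add, ← pow_add, add_comm k]

theorem eT_le : eT R ≤ Subgroup.centralizer {ia R} := by
  rintro x ⟨p, -, rfl⟩
  exact zHom_mem R p

theorem ia_eq_zHom : ia R = zHom R (Multiplicative.ofAdd 1, 1) := by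
  show _ = invHom (ia R) (ia_sq R) (Multiplicative.ofAdd 1) * pHom R 1
  rw [invHom_gen, map_one, mul_one]

theorem ia_mem_eT : ia R ∈ eT R := (mem_eT_iff R).2 ⟨_, 0, by rw [pow_zero, ← ia_eq_zHom]⟩

theorem eT_pow {x : ↥(twistedG2 K (3 ^ m))} (hx : x ∈ eT R) {n : ℕ} (hn : Fintype.card K = 8 * n + 3) :
    x ^ (4 * n + 2) = 1 := by
  obtain ⟨a, k, rfl⟩ := (mem_eT_iff R).1 hx
  rw [← map_pow, Prod.pow_mk, ← pow_mul, mul_comm k, pow_mul, ← orderOf_π_ell R hn, pow_orderOf_eq_one,
    one_pow, orderOf_π_ell R hn, show 4 * n + 2 = 2 * (2 * n + 1) by ring, pow_mul,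
    z2_sq a, one_pow]
  exact map_one _

theorem eT_no_four {x : ↥(twistedG2 K (3 ^ m))} (hx : x ∈ eT R) : orderOf x ≠ 4 := by
  obtain ⟨n, hn⟩ := card_K_eq R
  intro h
  have := orderOf_dvd_of_pow_eq_one (eT_pow R hx hn)
  rw [h] at this
  omega

/-- centralisers inside the centraliser of the involution -/
theorem eT_centralizer_ia {x : ↥(twistedG2 K (3 ^ m))} (hx : x ∈ eT R) (h2 : x ^ 2 ≠ 1)
    {g : ↥(twistedG2 K (3 ^ m))} (hg : g ∈ Subgroup.centralizer {ia R}) (hc : g * x = x * g) :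
    g ∈ eT R := by
  obtain ⟨a, k, rfl⟩ := (mem_eT_iff R).1 hx
  rw [centralizer_eq R] at hg
  obtain ⟨⟨b, y⟩, rfl⟩ := hg
  obtain ⟨z, rfl⟩ := CfsgLib.PSL2Two.π_surjective y
  rw [← map_mul, ← map_mul] at hc
  have hne : π (ellGen K) ^ (2 * k) ≠ 1 := by
    intro h
    refine h2 ?_
    rw [← map_pow, Prod.pow_mk, ← pow_mul, mul_comm k, h, z2_sq a]
    exact map_one _
  exact ⟨(b, π z), Subgroup.mem_prod.2 ⟨trivial, ell_centralizer hne (congrArg Prod.snd (zHom_injective R hc))⟩, rfl⟩

include R in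
theorem pow_two_ne_one {x : ↥(twistedG2 K (3 ^ m))} {r : ℕ} (hr : r.Prime) (hr2 : r ≠ 2)
    (hx : orderOf x = r) : x ^ 2 ≠ 1 := fun h =>
  hr2 ((Nat.prime_dvd_prime_iff_eq hr Nat.prime_two).1 (hx ▸ orderOf_dvd_of_pow_eq_one h))

/-- a prime order element of the torus has centraliser the abelian group of order `q + 1` -/
theorem eT_centralizer_prime (hm : 1 ≤ m) {x : ↥(twistedG2 K (3 ^ m))} (hx : x ∈ eT R) {r : ℕ}
    (hr : r.Prime) (hr2 : r ≠ 2) (hxr : orderOf x = r) : Subgroup.centralizer {x} = eT R := by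
  classical
  have hx2 : x ^ 2 ≠ 1 := pow_two_ne_one R hr hr2 hxr
  have hrd : r ∣ Fintype.card K + 1 := hxr ▸ card_eT R ▸ Subgroup.orderOf_dvd_natCard _ hx
  have hr3 : 3 < r := by
    have h3 : r ≠ 3 := by
      rintro rfl
      have : 3 ∣ Fintype.card K := R.big ▸ dvd_pow_self 3 (Nat.succ_ne_zero _)
      omega
    have := hr.two_le
    omega
  haveI := Fact.mk hr
  set D := Subgroup.centralizer {x} with hD
  have hle : eT R ≤ D := fun y hy => Subgroup.mem_centralizer_singleton_iff.2 (eT_comm R hy hx)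
  -- no element of the centraliser has order divisible by three
  have hthree : ∀ g ∈ D, ¬ 3 ∣ orderOf g := by
    intro g hg h3
    have hz := orderOf_pow_orderOf_div (orderOf_pos g).ne' h3
    set z := g ^ (orderOf g / 3)
    have hcz : Commute z x := (Subgroup.mem_centralizer_singleton_iff.1 (pow_mem hg _) : z * x = x * z)
    have hzx : orderOf (z * x) = 3 * r := by
      rw [hcz.orderOf_mul_eq_mul_orderOf_of_coprime (by
        rw [hz, hxr]; exact (Nat.coprime_primes Nat.prime_three hr).2 (by omega)), hz, hxr]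
    obtain ⟨c, hc⟩ := exists_conj_gB R (g := z * x) (hzx ▸ Dvd.intro r rfl)
    have ho : orderOf (c⁻¹ * (z * x) * c) = 3 * r := by
      rw [show c⁻¹ * (z * x) * c = MulAut.conj c⁻¹ (z * x) by simp, MulEquiv.orderOf_eq, hzx]
    rcases gB_orderOf R hc (ho ▸ Dvd.intro r rfl) with h | h | h <;> rw [ho] at h <;> omega
  -- the centraliser of an involution of the centraliser is abelian of order `q + 1`
  have hinv : ∀ j ∈ D, j * j = 1 → j ≠ 1 →
      Nat.card ↥(D ⊓ Subgroup.centralizer {j}) ≤ Fintype.card K + 1 := by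
    intro j hj hj2 hj1
    obtain ⟨c, hc⟩ := exists_conj_invol R hj2 hj1
    set C := Subgroup.centralizer {ia R}
    have hcx : c⁻¹ * x * c ∈ C := by
      have h := Subgroup.mem_centralizer_singleton_iff.1 hj
      rw [← hc] at h
      rw [Subgroup.mem_centralizer_singleton_iff]
      calc c⁻¹ * x * c * ia R = c⁻¹ * (x * (c * ia R * c⁻¹)) * c := by group
        _ = c⁻¹ * ((c * ia R * c⁻¹) * x) * c := by rw [h]
        _ = ia R * (c⁻¹ * x * c) := by group
    have hcyc : ∀ P : Sylow r C, IsCyclic (P : Subgroup C) := fun P => by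
      obtain ⟨Q, hQ⟩ := (P.2.map C.subtype).exists_le_sylow
      haveI := sylow_cyclic R hm hr3 Q
      haveI : IsCyclic ((P : Subgroup C).map C.subtype) :=
        isCyclic_of_injective (Subgroup.inclusion hQ) (Subgroup.inclusion_injective _)
      exact isCyclic_of_injective ((P : Subgroup C).equivMapOfInjective C.subtype C.subtype_injective).toMonoidHom
        ((P : Subgroup C).equivMapOfInjective C.subtype C.subtype_injective).injective
    obtain ⟨⟨d, hd⟩, hd'⟩ := TICount.exists_conj_zpowers (G := C) hcyc (x := ⟨c⁻¹ * x * c, hcx⟩)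
      (y := ⟨x, eT_le R hx⟩)
      (by rw [← Subgroup.orderOf_coe]
          show orderOf (c⁻¹ * x * c) = r
          rw [show c⁻¹ * x * c = MulAut.conj c⁻¹ x by simp, MulEquiv.orderOf_eq, hxr])
      (by rw [← Subgroup.orderOf_coe, hxr])
    set e := c * d
    have hex : e⁻¹ * x * e ∈ eT R := by
      obtain ⟨i, hi⟩ := hd'
      have h' : x ^ i = d⁻¹ * (c⁻¹ * x * c) * d := congrArg Subtype.val hi
      rw [show e⁻¹ * x * e = d⁻¹ * (c⁻¹ * x * c) * d by simp only [e]; group, ← h']
      exact zpow_mem hx i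
    have hei : e * ia R * e⁻¹ = j := by
      rw [← hc]
      simp only [e]
      rw [Subgroup.mem_centralizer_singleton_iff] at hd
      calc c * d * ia R * (c * d)⁻¹ = c * (d * ia R) * d⁻¹ * c⁻¹ := by group
        _ = _ := by rw [hd]; group
    have hsub : D ⊓ Subgroup.centralizer {j} ≤ (eT R).map (MulAut.conj e).toMonoidHom := by
      rintro g ⟨hg1, hg2⟩
      refine ⟨e⁻¹ * g * e, eT_centralizer_ia R hex ?_ ?_ ?_, by simp [mul_assoc]⟩
      · rw [show e⁻¹ * x * e = MulAut.conj e⁻¹ x by simp, ← map_pow]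
        exact fun h => hx2 ((map_eq_one_iff _ (MulEquiv.injective _)).1 h)
      · have h := Subgroup.mem_centralizer_singleton_iff.1 hg2
        rw [← hei] at h
        rw [Subgroup.mem_centralizer_singleton_iff]
        calc e⁻¹ * g * e * ia R = e⁻¹ * (g * (e * ia R * e⁻¹)) * e := by group
          _ = e⁻¹ * (e * ia R * e⁻¹ * g) * e := by rw [h]
          _ = ia R * (e⁻¹ * g * e) := by group
      · have h := Subgroup.mem_centralizer_singleton_iff.1 hg1
        calc e⁻¹ * g * e * (e⁻¹ * x * e) = e⁻¹ * (g * x) * e := by group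
          _ = e⁻¹ * (x * g) * e := by rw [h]
          _ = _ := by group
    exact (Nat.le_of_dvd Nat.card_pos (Subgroup.card_dvd_of_le hsub)).trans
      (by rw [Subgroup.card_map_of_injective (MulEquiv.injective _), card_eT R])
  -- the four-group
  obtain ⟨n, hn⟩ := card_K_eq R
  let E : Subgroup ↥(twistedG2 K (3 ^ m)) :=
    { carrier := {a | a ∈ eT R ∧ a * a = 1}
      mul_mem' := fun {a b} ha hb => ⟨mul_mem ha.1 hb.1, by
        rw [show a * b * (a * b) = a * (b * a) * b by group, eT_comm R hb.1 ha.1,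
          show a * (a * b) * b = a * a * (b * b) by group, ha.2, hb.2, one_mul]⟩
      one_mem' := ⟨one_mem _, one_mul 1⟩
      inv_mem' := fun {a} ha => ⟨inv_mem ha.1, by rw [← mul_inv_rev, ha.2, inv_one]⟩ }
  have hED : E ≤ D := fun a ha => hle ha.1
  have hCj : ∀ j ∈ E, j ≠ 1 → D ⊓ Subgroup.centralizer {j} = eT R := fun j hj hj1 =>
    (Subgroup.eq_of_le_of_card_ge (le_inf hle fun y hy =>
      Subgroup.mem_centralizer_singleton_iff.2 (eT_comm R hy hj.1))
      ((hinv j (hED hj) hj.2 hj1).trans (card_eT R).ge)).symm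
  let b2 : Z2 × Z2 →* ↥(twistedG2 K (3 ^ m)) :=
    (zHom R).comp ((MonoidHom.id _).prodMap (invHom (π (ellGen K) ^ (2 * n + 1)) (by
      rw [← pow_add, show 2 * n + 1 + (2 * n + 1) = 4 * n + 2 by ring, ← orderOf_π_ell R hn, pow_orderOf_eq_one])))
  have hb2 : Function.Injective b2 := by
    suffices hi : Function.Injective (invHom (π (ellGen K) ^ (2 * n + 1)) (by
        rw [← pow_add, show 2 * n + 1 + (2 * n + 1) = 4 * n + 2 by ring, ← orderOf_π_ell R hn, pow_orderOf_eq_one])) from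
      fun p p' h => Prod.ext (congrArg Prod.fst (zHom_injective R h) : _) (hi (congrArg Prod.snd (zHom_injective R h)))
    refine (injective_iff_map_eq_one _).2 fun a ha => ?_
    rcases mult_cases a with rfl | rfl
    · rfl
    · rw [invHom_gen] at ha
      have := Nat.le_of_dvd (by omega) (orderOf_dvd_of_pow_eq_one ha)
      rw [orderOf_π_ell R hn] at this
      omega
  have hb2v : ∀ a b, b2 (a, b) = zHom R (a, invHom (π (ellGen K) ^ (2 * n + 1)) (by
      rw [← pow_add, show 2 * n + 1 + (2 * n + 1) = 4 * n + 2 by ring, ← orderOf_π_ell R hn, pow_orderOf_eq_one]) b) :=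
    fun a b => rfl
  have hEeq : E = b2.range := by
    ext y
    constructor
    · rintro ⟨hy, hy2⟩
      obtain ⟨a, k, rfl⟩ := (mem_eT_iff R).1 hy
      rw [← map_mul, ← map_one (zHom R)] at hy2
      have h := congrArg Prod.snd (zHom_injective R hy2)
      simp only [Prod.snd_mul, Prod.snd_one, ← pow_add] at h
      have hd := orderOf_dvd_of_pow_eq_one h
      rw [orderOf_π_ell R hn, show k + k = 2 * k by ring, show 4 * n + 2 = 2 * (2 * n + 1) by ring] at hd
      obtain ⟨t, rfl⟩ := Nat.dvd_of_mul_dvd_mul_left two_pos hd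
      refine ⟨(a, Multiplicative.ofAdd 1 ^ t), ?_⟩
      rw [hb2v, map_pow, invHom_gen, pow_mul]
    · rintro ⟨⟨a, b⟩, rfl⟩
      refine ⟨?_, by rw [← map_mul, show (a, b) * (a, b) = 1 by revert a b; decide, map_one]⟩
      refine (mem_eT_iff R).2 ⟨a, ?_⟩
      rcases mult_cases b with rfl | rfl
      · exact ⟨0, by rw [hb2v, map_one, pow_zero]⟩
      · exact ⟨2 * n + 1, by rw [hb2v, invHom_gen]⟩
  have hEcard : Nat.card E = 4 := by
    rw [hEeq, ← Nat.card_congr (MonoidHom.ofInjective hb2).toEquiv]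
    simp
  -- Burnside
  haveI := Fact.mk Nat.prime_two
  let E' := E.subgroupOf D
  have hE'card : Nat.card E' = 4 := by
    rw [Nat.card_congr (Subgroup.subgroupOfEquivOfLe hED).toEquiv, hEcard]
  have hEp : IsPGroup 2 E' := IsPGroup.of_card (n := 2) (by rw [hE'card]; rfl)
  have hidx : ¬ 2 ∣ E'.index := by
    intro h
    have h8 : 2 ^ 3 ∣ Nat.card D := by
      rw [← Subgroup.card_mul_index E', hE'card]
      exact Nat.mul_dvd_mul_left 4 h
    obtain ⟨T, hT⟩ := Sylow.exists_subgroup_card_pow_prime 2 h8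
    obtain ⟨S, hS⟩ := (IsPGroup.of_card (show Nat.card (T.map D.subtype) = 2 ^ 3 by
      rw [Subgroup.card_map_of_injective D.subtype_injective, hT])).exists_le_sylow
    have hST : T.map D.subtype = (S : Subgroup ↥(twistedG2 K (3 ^ m))) := by
      refine Subgroup.eq_of_le_of_card_ge hS ?_
      rw [(sylow_two R S).1, Subgroup.card_map_of_injective D.subtype_injective, hT]
      norm_num
    have hxS : x ∈ (S : Subgroup ↥(twistedG2 K (3 ^ m))) := by
      refine (sylow_facts R S).1.le (Subgroup.mem_centralizer_iff.2 fun y hy => ?_)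
      rw [SetLike.mem_coe, ← hST] at hy
      obtain ⟨z, -, rfl⟩ := hy
      exact Subgroup.mem_centralizer_singleton_iff.1 z.2
    exact hx2 ((pow_two x).trans ((sylow_two R S).2 x hxS))
  let P := hEp.toSylow hidx
  have hP : Subgroup.normalizer ((P : Subgroup D) : Set D) ≤ Subgroup.centralizer ((P : Subgroup D) : Set D) := by
    show Subgroup.normalizer (E' : Set D) ≤ Subgroup.centralizer (E' : Set D)
    intro g hg
    suffices hgT : (g : ↥(twistedG2 K (3 ^ m))) ∈ eT R by
      rw [Subgroup.mem_centralizer_iff]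
      intro e he
      exact Subtype.ext (eT_comm R ((Subgroup.mem_subgroupOf.1 he).1) hgT)
    have hgE : ∀ e, e ∈ E → (g : ↥(twistedG2 K (3 ^ m))) * e * (g : ↥(twistedG2 K (3 ^ m)))⁻¹ ∈ E :=
      fun e he => (Subgroup.mem_normalizer_iff.1 hg ⟨e, hED he⟩).1 he
    by_contra hgn
    haveI := Fintype.ofFinite E
    let f : {e : E // e ≠ 1} → {e : E // e ≠ 1} := fun e =>
      ⟨⟨(g : ↥(twistedG2 K (3 ^ m))) * e.1.1 * (g : ↥(twistedG2 K (3 ^ m)))⁻¹, hgE _ e.1.2⟩, fun h =>
        e.2 (Subtype.ext (conj_eq_one_iff.1 (congrArg Subtype.val h)))⟩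
    have hf : Function.Bijective f := Finite.injective_iff_bijective.1 fun e e' h =>
      Subtype.ext (Subtype.ext (mul_left_cancel (mul_right_cancel
        (congrArg (fun z : {e : E // e ≠ 1} => z.1.1) h))))
    set σ : Equiv.Perm {e : E // e ≠ 1} := Equiv.ofBijective f hf with hσdef
    have hσ : ∀ e, (σ e).1.1 = (g : ↥(twistedG2 K (3 ^ m))) * e.1.1 * (g : ↥(twistedG2 K (3 ^ m)))⁻¹ :=
      fun e => rfl
    have hnofix : σ.support = Finset.univ := Finset.eq_univ_of_forall fun e => by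
      rw [Equiv.Perm.mem_support]
      intro h
      refine hgn ?_
      rw [← hCj e.1.1 e.1.2 fun h' => e.2 (Subtype.ext h')]
      refine ⟨g.2, Subgroup.mem_centralizer_singleton_iff.2 (mul_inv_eq_iff_eq_mul.1 ?_)⟩
      rw [← hσ e, h]
    have h3 : orderOf σ = 3 := by
      refine (card_support_eq_three_iff.1 ?_).orderOf
      rw [hnofix, Finset.card_univ, Fintype.card_subtype_compl, ← Nat.card_eq_fintype_card, hEcard,
        Fintype.card_subtype_eq]
    have hσn : ∀ (i : ℕ) e, ((σ ^ i) e).1.1 = (g : ↥(twistedG2 K (3 ^ m))) ^ i * e.1.1 *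
        ((g : ↥(twistedG2 K (3 ^ m))) ^ i)⁻¹ := by
      intro i
      induction i with
      | zero => intro e; simp
      | succ i ih => intro e; rw [pow_succ, Equiv.Perm.mul_apply, ih, hσ, pow_succ]; group
    refine hthree g.1 g.2 (h3.symm.dvd.trans ?_)
    refine orderOf_dvd_of_pow_eq_one (Equiv.ext fun e => Subtype.ext (Subtype.ext ?_))
    rw [hσn, pow_orderOf_eq_one]
    simp
  set O := (MonoidHom.transferSylow P hP).ker with hOdef
  have hcompl : Subgroup.IsComplement' O (P : Subgroup D) := MonoidHom.ker_transferSylow_isComplement' P hP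
  have hOcop : (Nat.card E').Coprime (Nat.card O) := by
    have h1 := hcompl.card_mul
    have h2 : Nat.card O = E'.index := by
      rw [← Subgroup.card_mul_index E'] at h1
      have h1' : Nat.card E' * Nat.card O = Nat.card E' * E'.index := (mul_comm _ _).trans h1
      exact Nat.eq_of_mul_eq_mul_left (show 0 < Nat.card E' by omega) h1'
    rw [h2, hE'card, show 4 = 2 ^ 2 from rfl]
    exact ((Nat.Prime.coprime_iff_not_dvd Nat.prime_two).2 hidx).pow_left 2
  haveI : IsMulCommutative E' := ⟨⟨fun a b => Subtype.ext (Subtype.ext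
    (eT_comm R (Subgroup.mem_subgroupOf.1 a.2).1 (Subgroup.mem_subgroupOf.1 b.2).1))⟩⟩
  have hEnc : ¬ IsCyclic E' := by
    intro h
    obtain ⟨a, ha⟩ := h.exists_ofOrder_eq_natCard
    rw [hE'card] at ha
    have : orderOf a ∣ 2 := orderOf_dvd_of_pow_eq_one (Subtype.ext (Subtype.ext (by
      simpa [pow_two] using (Subgroup.mem_subgroupOf.1 a.2).2)))
    rw [ha] at this
    norm_num at this
  have hO : O ≤ (eT R).subgroupOf D := by
    refine CfsgLib.Coprime.le_of_centralizers_le hEnc ?_ hOcop fun a ha ha1 => ?_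
    · rw [hOdef]
      exact le_top.trans (Subgroup.normalizer_eq_top _).ge
    · rintro y ⟨-, hy⟩
      rw [Subgroup.mem_subgroupOf, ← hCj a.1 ha fun h => ha1 (Subtype.ext h)]
      exact ⟨y.2, Subgroup.mem_centralizer_singleton_iff.2
        (congrArg Subtype.val (Subgroup.mem_centralizer_singleton_iff.1 hy))⟩
  refine le_antisymm (fun y hy => ?_) hle
  have htop : O ⊔ (P : Subgroup D) = ⊤ := hcompl.sup_eq_top
  have : (⊤ : Subgroup D) ≤ (eT R).subgroupOf D :=
    htop ▸ sup_le hO fun a ha => (ha : a ∈ E').1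
  exact this (Subgroup.mem_top ⟨y, hy⟩)

/-- centralisers of torus elements of order above two -/
theorem eT_centralizer (hm : 1 ≤ m) {x : ↥(twistedG2 K (3 ^ m))} (hx : x ∈ eT R) (h2 : x ^ 2 ≠ 1) :
    Subgroup.centralizer {x} = eT R := by
  refine le_antisymm ?_ fun y hy => Subgroup.mem_centralizer_singleton_iff.2 (eT_comm R hy hx)
  obtain ⟨n, hn⟩ := card_K_eq R
  have ho := orderOf_dvd_of_pow_eq_one (eT_pow R hx hn)
  obtain ⟨r, hr, hrd, hr2⟩ : ∃ r, r.Prime ∧ r ∣ orderOf x ∧ r ≠ 2 := by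
    have hne : ¬ orderOf x ∣ 2 := fun h => h2 (orderOf_dvd_iff_pow_eq_one.1 h)
    have hodd : ¬ (2 * 2 ∣ orderOf x) := fun h => by have := h.trans ho; omega
    rcases Nat.even_or_odd (orderOf x) with ⟨k, hk⟩ | ho'
    · have hk1 : k ≠ 1 := fun e => hne ⟨1, by omega⟩
      obtain ⟨r, hr, hrk⟩ := Nat.exists_prime_and_dvd hk1
      refine ⟨r, hr, hrk.trans ⟨2, by omega⟩, ?_⟩
      rintro rfl
      obtain ⟨j, rfl⟩ := hrk
      exact hodd ⟨j, by omega⟩
    · have h1 : orderOf x ≠ 1 := fun e => hne (e ▸ one_dvd 2)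
      obtain ⟨r, hr, hrk⟩ := Nat.exists_prime_and_dvd h1
      exact ⟨r, hr, hrk, fun e => by subst e; exact (Nat.not_even_iff_odd.2 ho') (even_iff_two_dvd.2 hrk)⟩
  rw [← eT_centralizer_prime R hm (pow_mem hx _) hr hr2 (orderOf_pow_orderOf_div (orderOf_pos x).ne' hrd)]
  intro y hy
  rw [Subgroup.mem_centralizer_singleton_iff] at hy ⊢
  exact (Commute.pow_right hy _).eq

end CfsgLib.Lie.Chev.TG2
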