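import Cfsg.Agent.Lib.Lie.Chev.Tw.Ree.Tori.Elliptic

/-!
# ²G₂(q): the normaliser of the torus of order (q + 1)/4
-/

set_option autoImplicit false
set_option maxRecDepth 100000

namespace CfsgLib.Lie.Chev.TG2

open Cfsg.Lie
open CfsgLib.PSL2Two (π)
open scoped MatrixGroups

/-- one inclusion suffices for the normaliser in a finite group -/
theorem mem_normalizer_of_conj_mem {G : Type*} [Group G] [Finite G] {H : Subgroup G} {g : G}
    (h : ∀ x ∈ H, g * x * g⁻¹ ∈ H) : g ∈ Subgroup.normalizer (H : Set G) := by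
  have e : H.map (MulAut.conj g).toMonoidHom = H := by
    refine Subgroup.eq_of_le_of_card_ge ?_ (Subgroup.card_map_of_injective (MulEquiv.injective _)).ge
    rintro _ ⟨x, hx, rfl⟩
    exact h x hx
  rw [Subgroup.mem_normalizer_iff]
  intro x
  conv_rhs => rw [← e]
  exact (Subgroup.mem_map_iff_mem (MulEquiv.injective _)).symm

variable {K : Type*} [Field K] [Fintype K] [CharP K 3] {θ : K ≃+* K} {m : ℕ} (R : Ree θ m)

local notation "S2" => Matrix.SpecialLinearGroup (Fin 2) K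
local notation "P2" => Matrix.ProjectiveSpecialLinearGroup (Fin 2) K
local notation "Z2" => Multiplicative (ZMod 2)

/-- the second involution of the four-group -/
noncomputable def eB (R : Ree θ m) : ↥(twistedG2 K (3 ^ m)) :=
  zHom R (1, π (ellGen K) ^ ((Fintype.card K + 1) / 4))

/-- the four-group of the torus of order `q + 1` -/
noncomputable def eE (R : Ree θ m) : Subgroup ↥(twistedG2 K (3 ^ m)) where
  carrier := {a | a ∈ eT R ∧ a * a = 1}
  mul_mem' := fun {a b} ha hb => ⟨mul_mem ha.1 hb.1, by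
    rw [show a * b * (a * b) = a * (b * a) * b by group, eT_comm R hb.1 ha.1,
      show a * (a * b) * b = a * a * (b * b) by group, ha.2, hb.2, one_mul]⟩
  one_mem' := ⟨one_mem _, one_mul 1⟩
  inv_mem' := fun {a} ha => ⟨inv_mem ha.1, by rw [← mul_inv_rev, ha.2, inv_one]⟩

/-- the cyclic torus of order `(q + 1)/4` -/
noncomputable def cT (R : Ree θ m) : Subgroup ↥(twistedG2 K (3 ^ m)) :=
  Subgroup.zpowers (zHom R (1, π (ellGen K) ^ 2))

include R in
theorem ell_half {n : ℕ} (hn : Fintype.card K = 8 * n + 3) :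
    (Fintype.card K + 1) / 4 = 2 * n + 1 := by omega

include R in
theorem ell_half_sq {n : ℕ} (hn : Fintype.card K = 8 * n + 3) :
    π (ellGen K) ^ (2 * n + 1) * π (ellGen K) ^ (2 * n + 1) = 1 ∧
      π (ellGen K) ^ (2 * n + 1) ≠ 1 := by
  refine ⟨?_, fun h => ?_⟩
  · rw [← pow_add, show 2 * n + 1 + (2 * n + 1) = 4 * n + 2 by ring, ← orderOf_π_ell R hn, pow_orderOf_eq_one]
  · have := Nat.le_of_dvd (by omega) (orderOf_dvd_of_pow_eq_one h)
    rw [orderOf_π_ell R hn] at this
    omega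

theorem eB_mem : eB R ∈ eE R := by
  obtain ⟨n, hn⟩ := card_K_eq R
  refine ⟨(mem_eT_iff R).2 ⟨_, _, rfl⟩, ?_⟩
  rw [eB, ← map_mul, Prod.mk_mul_mk, ell_half R hn, (ell_half_sq R hn).1, mul_one]
  exact map_one _

theorem eB_ne_one : eB R ≠ 1 := fun h => by
  obtain ⟨n, hn⟩ := card_K_eq R
  have e := congrArg Prod.snd (zHom_injective R (h.trans (map_one (zHom R)).symm))
  simp only [Prod.snd_one] at e
  exact (ell_half_sq R hn).2 (ell_half R hn ▸ e)

theorem ia_mem_eE : ia R ∈ eE R := ⟨ia_mem_eT R, ia_sq R⟩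

theorem eE_cases {x : ↥(twistedG2 K (3 ^ m))} (hx : x ∈ eE R) :
    x = 1 ∨ x = ia R ∨ x = eB R ∨ x = ia R * eB R := by
  obtain ⟨n, hn⟩ := card_K_eq R
  obtain ⟨hx, h2⟩ := hx
  obtain ⟨a, k, rfl⟩ := (mem_eT_iff R).1 hx
  rw [← map_mul, ← map_one (zHom R)] at h2
  have h := congrArg Prod.snd (zHom_injective R h2)
  simp only [Prod.snd_mul, Prod.snd_one, ← pow_add] at h
  have hd := orderOf_dvd_of_pow_eq_one h
  rw [orderOf_π_ell R hn, show k + k = 2 * k by ring, show 4 * n + 2 = 2 * (2 * n + 1) by ring] at hd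
  obtain ⟨t, rfl⟩ := Nat.dvd_of_mul_dvd_mul_left two_pos hd
  have ht : π (ellGen K) ^ ((2 * n + 1) * t) = 1 ∨
      π (ellGen K) ^ ((2 * n + 1) * t) = π (ellGen K) ^ (2 * n + 1) := by
    have hsq : (π (ellGen K) ^ (2 * n + 1)) ^ 2 = 1 := by rw [pow_two]; exact (ell_half_sq R hn).1
    rw [pow_mul]
    rcases Nat.even_or_odd' t with ⟨j, rfl | rfl⟩
    · exact Or.inl (by rw [pow_mul, hsq, one_pow])
    · exact Or.inr (by rw [pow_succ, pow_mul, hsq, one_pow, one_mul])
  have hia : ∀ y : P2, zHom R (Multiplicative.ofAdd 1, y) = ia R * zHom R (1, y) := fun y => by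
    rw [ia_eq_zHom R, ← map_mul, Prod.mk_mul_mk, mul_one, one_mul]
  rcases mult_cases a with rfl | rfl <;> rcases ht with e | e <;> rw [e]
  · exact Or.inl (map_one _)
  · exact Or.inr (Or.inr (Or.inl (by rw [eB, ell_half R hn])))
  · exact Or.inr (Or.inl (ia_eq_zHom R).symm)
  · exact Or.inr (Or.inr (Or.inr (by rw [hia, eB, ell_half R hn])))

theorem ia_ne_eB : ia R ≠ eB R := fun h => by
  rw [ia_eq_zHom R, eB] at h
  have e := congrArg Prod.fst (zHom_injective R h)
  exact absurd e (show (Multiplicative.ofAdd 1 : Z2) ≠ 1 by decide)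

theorem card_eE : Nat.card (eE R) = 4 := by
  classical
  have hmul : ia R * eB R ∈ eE R := mul_mem (ia_mem_eE R) (eB_mem R)
  have h3 : ia R * eB R ≠ 1 := fun h => ia_ne_eB R (by
    rw [mul_eq_one_iff_eq_inv.1 h]; exact inv_eq_of_mul_eq_one_right (eB_mem R).2)
  have h4 : ia R * eB R ≠ eB R := fun h => ia_ne_one R (mul_eq_right.1 h)
  have h5 : ia R * eB R ≠ ia R := fun h => eB_ne_one R (mul_eq_left.1 h)
  have e : (eE R : Set ↥(twistedG2 K (3 ^ m))) = ↑({1, ia R, eB R, ia R * eB R} : Finset ↥(twistedG2 K (3 ^ m))) := by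
    ext x
    simp only [Finset.coe_insert, Finset.coe_singleton, Set.mem_insert_iff, Set.mem_singleton_iff, SetLike.mem_coe]
    exact ⟨eE_cases R, by
      rintro (rfl | rfl | rfl | rfl)
      exacts [one_mem _, ia_mem_eE R, eB_mem R, hmul]⟩
  rw [← SetLike.coe_sort_coe, e]
  simp [(ia_ne_one R).symm, (eB_ne_one R).symm, h3.symm, h4.symm, h5.symm, ia_ne_eB R]

theorem eE_le {H : Subgroup ↥(twistedG2 K (3 ^ m))} (hi : ia R ∈ H) (a : Z2)
    (hz : zHom R (a, π (ellGen K) ^ ((Fintype.card K + 1) / 4)) ∈ H) : eE R ≤ H := by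
  have hb : eB R ∈ H := by
    rcases mult_cases a with rfl | rfl
    · exact hz
    · convert mul_mem hi hz using 1
      rw [ia_eq_zHom R, eB, ← map_mul, Prod.mk_mul_mk, one_mul, show (Multiplicative.ofAdd 1 : Z2) * Multiplicative.ofAdd 1 = 1 by decide]
  intro x hx
  rcases eE_cases R hx with rfl | rfl | rfl | rfl
  exacts [one_mem _, hi, hb, mul_mem hi hb]

theorem mem_cT_iff {x : ↥(twistedG2 K (3 ^ m))} :
    x ∈ cT R ↔ x ∈ eT R ∧ x ^ ((Fintype.card K + 1) / 4) = 1 := by
  obtain ⟨n, hn⟩ := card_K_eq R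
  rw [ell_half R hn]
  constructor
  · intro hx
    obtain ⟨k, rfl⟩ := mem_powers_iff_mem_zpowers.2 hx
    refine ⟨pow_mem ((mem_eT_iff R).2 ⟨1, 2, rfl⟩) k, ?_⟩
    show (zHom R (1, π (ellGen K) ^ 2) ^ k) ^ (2 * n + 1) = 1
    rw [← pow_mul, mul_comm, pow_mul, ← map_pow, Prod.pow_mk, one_pow, ← pow_mul,
      show 2 * (2 * n + 1) = 4 * n + 2 by ring, ← orderOf_π_ell R hn, pow_orderOf_eq_one]
    exact (congrArg (· ^ k) (map_one (zHom R))).trans (one_pow k)
  · rintro ⟨hx, h1⟩
    obtain ⟨a, k, rfl⟩ := (mem_eT_iff R).1 hx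
    rw [← map_pow, Prod.pow_mk, ← map_one (zHom R)] at h1
    have e := zHom_injective R h1
    have ha : a = 1 := by
      have h := congrArg Prod.fst e
      simp only [Prod.fst_one] at h
      rw [pow_succ, pow_mul, z2_sq, one_pow, one_mul] at h
      exact h
    have hk := congrArg Prod.snd e
    simp only [Prod.snd_one, ← pow_mul] at hk
    have hd := orderOf_dvd_of_pow_eq_one hk
    rw [orderOf_π_ell R hn, show 4 * n + 2 = 2 * (2 * n + 1) by ring] at hd
    obtain ⟨j, rfl⟩ := Nat.dvd_of_mul_dvd_mul_right (by omega) hd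
    refine mem_powers_iff_mem_zpowers.1 ⟨j, ?_⟩
    show zHom R (1, π (ellGen K) ^ 2) ^ j = _
    rw [← map_pow, Prod.pow_mk, one_pow, ← pow_mul, ha]

theorem card_cT : Nat.card (cT R) = (Fintype.card K + 1) / 4 := by
  obtain ⟨n, hn⟩ := card_K_eq R
  rw [cT, Nat.card_zpowers, orderOf_injective _ (zHom_injective R), Prod.orderOf_mk, orderOf_one,
    Nat.lcm_one_left, ell_half R hn, orderOf_pow, orderOf_π_ell R hn, show 4 * n + 2 = 2 * (2 * n + 1) by ring,
    Nat.gcd_eq_right (Dvd.intro _ rfl), Nat.mul_div_cancel_left _ two_pos]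

theorem cT_le : cT R ≤ eT R := fun _ hx => ((mem_cT_iff R).1 hx).1

theorem cT_sq_ne_one {x : ↥(twistedG2 K (3 ^ m))} (hx : x ∈ cT R) (h1 : x ≠ 1) : x ^ 2 ≠ 1 := fun h => by
  obtain ⟨n, hn⟩ := card_K_eq R
  have h' := ((mem_cT_iff R).1 hx).2
  rw [ell_half R hn, pow_succ, pow_mul, h, one_pow, one_mul] at h'
  exact h1 h'

theorem cT_centralizer (hm : 1 ≤ m) {A : Subgroup ↥(twistedG2 K (3 ^ m))} (hA : A ≤ cT R) (hA1 : A ≠ ⊥) :
    Subgroup.centralizer (A : Set ↥(twistedG2 K (3 ^ m))) = eT R := by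
  obtain ⟨⟨x, hx⟩, hx1⟩ := Subgroup.ne_bot_iff_exists_ne_one.1 hA1
  have hx1' : (x : ↥(twistedG2 K (3 ^ m))) ≠ 1 := fun h => hx1 (Subtype.ext h)
  refine le_antisymm ?_ fun y hy => Subgroup.mem_centralizer_iff.2 fun z hz => eT_comm R (cT_le R (hA hz)) hy
  rw [← eT_centralizer R hm (cT_le R (hA hx)) (cT_sq_ne_one R (hA hx) hx1')]
  exact Subgroup.centralizer_le (Set.singleton_subset_iff.2 hx)

/-- the centraliser of the four-group -/
theorem card_centralizer_eE (hm : 1 ≤ m) : Nat.card (Subgroup.centralizer (eE R : Set ↥(twistedG2 K (3 ^ m)))) =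
    2 * (Fintype.card K + 1) ∧
    ∀ x ∈ Subgroup.centralizer (eE R : Set ↥(twistedG2 K (3 ^ m))), x ^ 2 ∈ eT R := by
  classical
  obtain ⟨n, hn⟩ := card_K_eq R
  obtain ⟨w, hw⟩ := Classical.SL2EllTorus.exists_inverter (card_odd (K := K)) (orderOf_ellGen (K := K))
  set W := zHom R (1, π w) with hWdef
  set CE := Subgroup.centralizer (eE R : Set ↥(twistedG2 K (3 ^ m)))
  have hwa : ∀ k : ℕ, π w * π (ellGen K) ^ k = (π (ellGen K) ^ k)⁻¹ * π w := by
    intro k
    rw [← map_pow, ← map_inv, ← map_mul, ← map_mul]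
    congr 1
    rw [← mul_inv_eq_iff_eq_mul, ← conj_pow, hw, inv_pow]
  have hb : (π (ellGen K) ^ (2 * n + 1))⁻¹ = π (ellGen K) ^ (2 * n + 1) :=
    inv_eq_of_mul_eq_one_right (ell_half_sq R hn).1
  have hWia : Commute W (ia R) :=
    (Subgroup.mem_centralizer_singleton_iff.1 (zHom_mem R _) : W * ia R = ia R * W)
  have hWb : Commute W (eB R) := by
    show W * eB R = eB R * W
    rw [hWdef, eB, ← map_mul, ← map_mul, Prod.mk_mul_mk, Prod.mk_mul_mk, ell_half R hn, hwa, hb]
  have hWE : W ∈ CE := by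
    rw [Subgroup.mem_centralizer_iff]
    intro x hx
    rcases eE_cases R hx with rfl | rfl | rfl | rfl
    exacts [(Commute.one_left W).eq, hWia.eq.symm, hWb.eq.symm, (hWia.mul_right hWb).eq.symm]
  have hTE : eT R ≤ CE := fun y hy => Subgroup.mem_centralizer_iff.2 fun z hz => eT_comm R hz.1 hy
  have hWT : W ∉ eT R := by
    intro h
    have h1 := eT_comm R h ((mem_eT_iff R).2 ⟨1, 1, rfl⟩)
    rw [hWdef, ← map_mul, ← map_mul] at h1
    have e := congrArg Prod.snd (zHom_injective R h1)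
    simp only [Prod.mk_mul_mk, hwa] at e
    have e' := mul_right_cancel (b := π w) (e.trans (by rw [pow_one]) : (π (ellGen K) ^ 1)⁻¹ * π w = π (ellGen K) * π w)
    rw [pow_one, inv_eq_iff_mul_eq_one, ← pow_two] at e'
    have := Nat.le_of_dvd (by norm_num) (orderOf_dvd_of_pow_eq_one e')
    rw [orderOf_π_ell R hn] at this
    have h27 : 3 ^ 3 ≤ Fintype.card K := R.big ▸ Nat.pow_le_pow_right (by norm_num) (by omega)
    omega
  have hcase : ∀ x ∈ CE, x ∈ eT R ∨ W⁻¹ * x ∈ eT R := by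
    intro x hx
    rw [Subgroup.mem_centralizer_iff] at hx
    have hxC : x ∈ Subgroup.centralizer {ia R} :=
      Subgroup.mem_centralizer_singleton_iff.2 (hx _ (ia_mem_eE R)).symm
    rw [centralizer_eq R] at hxC
    obtain ⟨⟨a, y⟩, rfl⟩ := hxC
    obtain ⟨g, rfl⟩ := CfsgLib.PSL2Two.π_surjective y
    have h := hx _ (eB_mem R)
    rw [eB, ← map_mul, ← map_mul] at h
    have e := congrArg Prod.snd (zHom_injective R h)
    simp only [Prod.mk_mul_mk, ell_half R hn] at e
    rw [← map_pow, ← map_mul, ← map_mul] at e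
    set B := ellGen K ^ (2 * n + 1)
    have hBm : B ∈ Subgroup.zpowers (ellGen K) := pow_mem (Subgroup.mem_zpowers _) _
    have hns : ¬ Char.TwoClasses.IsScalar2 B.1 := fun h => (ell_half_sq R hn).2 (by
      rw [← map_pow]; exact ell_scalar h)
    have hN : g ∈ Subgroup.normalizer (Subgroup.zpowers (ellGen K) : Set S2) := by
      have hgB : (g * B * g⁻¹).1 = B.1 ∨ (g * B * g⁻¹).1 = -B.1 := by
        refine π_neg_cases ?_
        rw [map_mul, map_mul, map_inv, ← map_mul π g B, ← e, map_mul, mul_inv_cancel_right]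
      have hgBm : g * B * g⁻¹ ∈ Subgroup.zpowers (ellGen K) ∧
          ¬ Char.TwoClasses.IsScalar2 (g * B * g⁻¹).1 := by
        rcases hgB with h | h
        · rw [Subtype.ext h]; exact ⟨hBm, hns⟩
        · have hneg : g * B * g⁻¹ = (Char.TwoChars.negS : S2) * B := Subtype.ext (by
            rw [h, Matrix.SpecialLinearGroup.coe_mul, Char.TwoChars.negS_val, neg_one_mul])
          have hnm : (Char.TwoChars.negS : S2) ∈ Subgroup.zpowers (ellGen K) :=
            Char.TwoChars.scalar_mem (Classical.SL2EllTorus.card_tor orderOf_ellGen) card_odd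
              Char.TwoChars.scalar_negS
          refine ⟨hneg ▸ mul_mem hnm hBm, fun hs => hns ?_⟩
          rw [h] at hs
          simpa [Char.TwoClasses.IsScalar2] using hs
      refine mem_normalizer_of_conj_mem fun z hz => ?_
      rw [← Classical.SL2EllTorus.centralizer_elem card_odd orderOf_ellGen hgBm.1 hgBm.2,
        Subgroup.mem_centralizer_singleton_iff]
      have hzB : z * B = B * z := by
        obtain ⟨i, rfl⟩ := hz
        exact ((Commute.zpow_self (ellGen K) i).pow_right _).eq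
      calc g * z * g⁻¹ * (g * B * g⁻¹) = g * (z * B) * g⁻¹ := by group
        _ = g * (B * z) * g⁻¹ := by rw [hzB]
        _ = _ := by group
    have hmem : ∀ v : S2, v * ellGen K * v⁻¹ = ellGen K → zHom R (a, π v) ∈ eT R := fun v hv => by
      obtain ⟨i, hi⟩ := mem_powers_iff_mem_zpowers.2
        ((Classical.SL2EllTorus.mem_tor_iff card_odd orderOf_ellGen v).2 hv)
      exact (mem_eT_iff R).2 ⟨a, i, by rw [← map_pow]; exact congrArg (fun u => zHom R (a, π u)) hi⟩
    rcases (Classical.SL2EllTorus.normalizer_iff card_odd orderOf_ellGen g).1 hN with h | h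
    · exact Or.inl (hmem g h)
    · refine Or.inr ?_
      rw [hWdef, ← map_inv, ← map_mul]
      simp only [Prod.inv_mk, inv_one, Prod.mk_mul_mk, one_mul, ← map_inv, ← map_mul]
      refine hmem _ ?_
      calc w⁻¹ * g * ellGen K * (w⁻¹ * g)⁻¹ = w⁻¹ * (g * ellGen K * g⁻¹) * w := by group
        _ = ellGen K := by rw [h, ← hw]; group
  constructor
  · rw [← Nat.card_eq_of_bijective (fun p : Bool × eT R => (⟨(if p.1 then W else 1) * p.2,
      mul_mem (by cases p.1; exacts [one_mem _, hWE]) (hTE p.2.2)⟩ : CE)) ⟨?_, ?_⟩]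
    · rw [Nat.card_prod, Nat.card_eq_fintype_card (α := Bool), Fintype.card_bool, card_eT R]
    · rintro ⟨s, t⟩ ⟨s', t'⟩ h
      have h' := congrArg Subtype.val h
      cases s <;> cases s' <;> simp at h'
      · rw [h']
      · exact absurd ((eq_mul_inv_of_mul_eq h'.symm).symm ▸ mul_mem t.2 (inv_mem t'.2)) hWT
      · exact absurd ((eq_mul_inv_of_mul_eq h').symm ▸ mul_mem t'.2 (inv_mem t.2)) hWT
      · rw [h']
    · rintro ⟨x, hx⟩
      rcases hcase x hx with h | h
      · exact ⟨(false, ⟨x, h⟩), Subtype.ext (one_mul x)⟩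
      · exact ⟨(true, ⟨_, h⟩), Subtype.ext (mul_inv_cancel_left W x)⟩
  · intro x hx
    rcases hcase x hx with h | h
    · exact pow_mem h 2
    · obtain ⟨a, k, e⟩ := (mem_eT_iff R).1 h
      rw [eq_inv_mul_iff_mul_eq] at e
      have hw2 : π w * π w = 1 := by
        rw [← map_mul, Classical.SL2EllTorus.sq_outside card_odd orderOf_ellGen
          ((Classical.SL2EllTorus.normalizer_iff card_odd orderOf_ellGen w).2 (Or.inr hw))
          (fun hm => Classical.SL2EllTorus.gen_ne_inv card_odd orderOf_ellGen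
            (((Classical.SL2EllTorus.mem_tor_iff card_odd orderOf_ellGen w).1 hm).symm.trans hw)),
          CfsgLib.PSL2Two.π_eq_one_iff]
        exact Or.inr Char.TwoChars.negS_val
      rw [← e, pow_two, hWdef, ← map_mul, ← map_mul, Prod.mk_mul_mk, Prod.mk_mul_mk, one_mul]
      refine (mem_eT_iff R).2 ⟨a * a, 0, ?_⟩
      rw [pow_zero]
      have hu : π w * π (ellGen K) ^ k * (π w * π (ellGen K) ^ k) = 1 := by
        nth_rewrite 1 [hwa k]
        rw [mul_assoc, ← mul_assoc (π w), hw2, one_mul, inv_mul_cancel]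
      rw [hu]

end CfsgLib.Lie.Chev.TG2
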