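import Cfsg.Agent.Lib.Lie.Chev.Tw.Ree.Tori.TorusNorm
import Cfsg.Agent.Lib.Lie.Chev.CoxTorus.Data
import Cfsg.Agent.Lib.Lie.Chev.Tw.Ree.SevenRep

/-!
# ²G₂(q): centralisers of the elements of prime order dividing q² - q + 1
-/

set_option autoImplicit false
set_option maxRecDepth 100000

namespace CfsgLib.Lie.Chev.TG2

open Cfsg.Lie
open scoped MatrixGroups

theorem eval_cyclotomic_six (x : ℤ) : (Polynomial.cyclotomic 6 ℤ).eval x = x ^ 2 - x + 1 := by
  have h := Polynomial.cyclotomic_expand_eq_cyclotomic_mul (p := 2) (n := 3) Nat.prime_two (by decide) ℤ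
  rw [Polynomial.cyclotomic_three] at h
  simp only [map_add, map_pow, Polynomial.expand_X, map_one] at h
  have h6 : Polynomial.cyclotomic 6 ℤ = Polynomial.X ^ 2 - Polynomial.X + 1 := by
    refine mul_right_cancel₀ (b := Polynomial.X ^ 2 + Polynomial.X + 1) ?_ (h.symm.trans (by ring))
    rw [← Polynomial.cyclotomic_three]
    exact Polynomial.cyclotomic_ne_zero _ _
  simp [h6]

/-- small totient -/
theorem dvd_twelve {n : ℕ} (hn : 0 < n) (h : Nat.totient n ≤ 2) : n ∣ 12 := by
  rw [Nat.dvd_iff_prime_pow_dvd_dvd]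
  intro p k hp hd
  rcases Nat.eq_zero_or_pos k with rfl | hk
  · simp
  have h1 : Nat.totient (p ^ k) ≤ 2 :=
    (Nat.le_of_dvd (Nat.totient_pos.2 hn) (Nat.totient_dvd_of_dvd hd)).trans h
  rw [Nat.totient_prime_pow hp hk] at h1
  have h2 := hp.two_le
  have hpos : 1 ≤ p ^ (k - 1) := Nat.one_le_pow _ _ hp.pos
  have hp3 : p ≤ 3 := by
    have : p - 1 ≤ p ^ (k - 1) * (p - 1) := Nat.le_mul_of_pos_left _ hpos
    omega
  have hk3 : k ≤ 2 := by
    by_contra hk3
    have h4 : p ^ 2 ≤ p ^ (k - 1) := Nat.pow_le_pow_right hp.pos (by omega)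
    have h5 : 4 ≤ p ^ 2 := by nlinarith
    have : p ^ (k - 1) ≤ p ^ (k - 1) * (p - 1) := Nat.le_mul_of_pos_right _ (by omega)
    omega
  interval_cases p <;> interval_cases k <;> simp_all

/-- orders of small totient along a sixth root of unity -/
theorem pow_six_eq_one {r : ℕ} [Fact r.Prime] {ω j : ZMod r} (hω : orderOf ω = 6) (hj : j ≠ 0)
    (h : ∀ i : ℕ, Nat.totient (orderOf (ω ^ i * j)) ≤ 2) : j ^ 6 = 1 := by
  have hω0 : ω ≠ 0 := fun e => by simp [e] at hω
  have hpos : ∀ a : ZMod r, a ≠ 0 → 0 < orderOf a := fun a ha =>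
    orderOf_pos_iff.2 (isOfFinOrder_iff_pow_eq_one.2
      ⟨r - 1, Nat.sub_pos_of_lt (Fact.out : r.Prime).one_lt, ZMod.pow_card_sub_one_eq_one ha⟩)
  have hd : orderOf j ∣ 12 := dvd_twelve (hpos j hj) (by simpa using h 0)
  by_contra hne
  have hcases : orderOf j = 4 ∨ orderOf j = 12 := by
    have hle := Nat.le_of_dvd (by norm_num) hd
    have h6 : ¬ orderOf j ∣ 6 := fun e => hne (orderOf_dvd_iff_pow_eq_one.1 e)
    generalize orderOf j = o at *
    interval_cases o <;> omega
  rcases hcases with e | e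
  · have e2 : orderOf (ω ^ 2) = 3 := by
      rw [orderOf_pow' ω two_ne_zero, hω]
      norm_num
    have h12 : orderOf (ω ^ 2 * j) = 12 := by
      rw [(Commute.all (ω ^ 2) j).orderOf_mul_eq_mul_orderOf_of_coprime (by rw [e, e2]; norm_num), e, e2]
    have := h 2
    rw [h12] at this
    exact absurd this (by decide)
  · have := h 0
    rw [pow_zero, one_mul, e] at this
    exact absurd this (by decide)

variable {K : Type*} [Field K] [Fintype K] [CharP K 3] {θ : K ≃+* K} {m : ℕ} (R : Ree θ m)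

set_option quotPrecheck false
local notation "GG" => ↥(twistedG2 K (3 ^ m))
local notation "qK" => Fintype.card K
local notation "MK" => Fintype.card K ^ 2 - Fintype.card K + 1

include R in
theorem hall_prime {r : ℕ} (hr : r.Prime) (hd : r ∣ MK) :
    r ≠ 2 ∧ r ≠ 3 ∧ ¬ r ∣ qK := by
  have hq := card_K_facts R
  have h3 : 3 ∣ qK := R.big ▸ dvd_pow_self 3 (Nat.succ_ne_zero _)
  have hle : qK ≤ qK ^ 2 := Nat.le_self_pow two_ne_zero _
  obtain ⟨a, ha⟩ := h3
  have hsq : qK ^ 2 = qK * qK := pow_two _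
  have hrq : ¬ r ∣ qK := by
    intro h
    have h2 : r ∣ qK ^ 2 - qK := Nat.dvd_sub (hsq ▸ h.mul_right _) h
    exact hr.not_dvd_one ((Nat.dvd_add_right h2).1 hd)
  refine ⟨?_, ?_, hrq⟩
  · rintro rfl
    have hodd := card_odd (K := K)
    have : Even (qK ^ 2 - qK) := by
      rw [Nat.even_sub hle, Nat.even_pow]
      simp
    obtain ⟨b, hb⟩ := this
    omega
  · rintro rfl
    exact hrq ⟨a, ha⟩

include R in
/-- centralisers and normalisers -/
theorem hall_facts (hm : 1 ≤ m) {x : GG} {r : ℕ} (hr : r.Prime) (hd : r ∣ MK)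
    (hx : orderOf x = r) :
    IsCyclic (Subgroup.centralizer ({x} : Set GG)) ∧ Nat.card (Subgroup.centralizer ({x} : Set GG)) ∣ MK ∧
      ∃ k, k ∣ 6 ∧ Nat.card (Subgroup.normalizer (Subgroup.centralizer ({x} : Set GG) : Set GG)) =
        k * Nat.card (Subgroup.centralizer ({x} : Set GG)) := by
  classical
  haveI := Fact.mk hr
  obtain ⟨hr2, hr3, hrq⟩ := hall_prime R hr hd
  have hq27 := card_K_ge R hm
  have hev : (Polynomial.cyclotomic 6 ℤ).eval (qK : ℤ) = ((MK : ℕ) : ℤ) := by
    rw [eval_cyclotomic_six, Nat.cast_add, Nat.cast_sub (Nat.le_self_pow two_ne_zero _)]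
    norm_num
  have hr6 : ¬ r ∣ 6 := fun h => by
    rcases (Nat.Prime.dvd_mul hr).1 (show r ∣ 2 * 3 from h) with e | e
    · exact hr2 ((Nat.prime_dvd_prime_iff_eq hr Nat.prime_two).1 e)
    · exact hr3 ((Nat.prime_dvd_prime_iff_eq hr Nat.prime_three).1 e)
  obtain ⟨hprim, h6⟩ := CfsgLib.Lie.CoxTorus.primitive_of_dvd_eval hr hr6 (q := qK)
    (by rw [hev]; exact Int.natCast_dvd_natCast.2 hd)
  have hr7 : 7 ≤ r := by
    have := Nat.le_of_dvd (Nat.sub_pos_of_lt hr.one_lt) h6
    omega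
  let incl : GG →* ↥(chevG2.group K) := Subgroup.inclusion (twisted_le_group R)
  have hincl : Function.Injective incl := Subgroup.inclusion_injective _
  obtain ⟨hcyc, hcard, hj⟩ := CfsgLib.Lie.CoxTorus.cox_centralizer (F := K) CfsgLib.Lie.CoxTorus.cG2
    kerG2_ok rfl CfsgLib.Lie.CoxTorus.degG2 (h := 6) (by norm_num) (by decide +kernel) hr
    (fun i hd' => by
      have hb : ∀ i : Fin chevG2.rank, 0 < CfsgLib.Lie.CoxTorus.vecOfList [2, 6] i ∧
          CfsgLib.Lie.CoxTorus.vecOfList [2, 6] i < 7 := by decide +kernel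
      exact absurd (Nat.le_of_dvd (hb i).1 hd') (by have := (hb i).2; omega))
    CfsgLib.Lie.CoxTorus.uG2 CfsgLib.Lie.CoxTorus.uG2_tri (CfsgLib.Lie.CoxTorus.vecOfList [1, 3]) (B := 12)
    (by unfold CfsgLib.Lie.CoxTorus.qlen; decide +kernel)
    (CfsgLib.Lie.CoxTorus.bound_mono (r₀ := 7) (by decide +kernel) hr7) hprim
    (fun ℓ hℓ hℓ6 hd' => by
      rw [hev, Int.natAbs_natCast] at hd'
      obtain ⟨h2, h3, -⟩ := hall_prime R hℓ ((dvd_pow_self ℓ two_ne_zero).trans hd')
      rcases (Nat.Prime.dvd_mul hℓ).1 (show ℓ ∣ 2 * 3 from hℓ6) with e | e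
      · exact h2 ((Nat.prime_dvd_prime_iff_eq hℓ Nat.prime_two).1 e)
      · exact h3 ((Nat.prime_dvd_prime_iff_eq hℓ Nat.prime_three).1 e))
    (incl x) (by rw [orderOf_injective incl hincl, hx])
  rw [hev, Int.natAbs_natCast] at hcard
  set C := Subgroup.centralizer ({x} : Set GG) with hC
  let f : C →* Subgroup.centralizer ({incl x} : Set ↥(chevG2.group K)) :=
    (incl.comp C.subtype).codRestrict _ fun y => Subgroup.mem_centralizer_singleton_iff.2 (by
      show incl y * incl x = incl x * incl y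
      rw [← map_mul, ← map_mul, Subgroup.mem_centralizer_singleton_iff.1 y.2])
  have hf : Function.Injective f := fun a b h => Subtype.ext (hincl (congrArg Subtype.val h))
  haveI := hcyc
  have hCc : IsCyclic C := isCyclic_of_injective f hf
  refine ⟨hCc, hcard ▸ Subgroup.card_dvd_of_injective f hf, ?_⟩
  set N := Subgroup.normalizer (C : Set GG)
  have hxC : x ∈ C := Subgroup.mem_centralizer_singleton_iff.2 rfl
  have hex : ∀ g : N, ∃ j : ℕ, (g : GG) * x * (g : GG)⁻¹ = x ^ j := by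
    intro g
    have hm' := (Subgroup.mem_normalizer_iff.1 g.2 x).1 hxC
    have e : Subgroup.zpowers ((g : GG) * x * (g : GG)⁻¹) = Subgroup.zpowers x := by
      refine TICount.cyclic_subgroup_unique hCc (Subgroup.zpowers_le.2 hm') (Subgroup.zpowers_le.2 hxC) ?_
      rw [Nat.card_zpowers, Nat.card_zpowers, ← MulAut.conj_apply, MulEquiv.orderOf_eq]
    obtain ⟨j, hj⟩ := mem_powers_iff_mem_zpowers.2 (e ▸ Subgroup.mem_zpowers ((g : GG) * x * (g : GG)⁻¹))
    exact ⟨j, hj.symm⟩
  choose J hJ using hex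
  have hcast : ∀ a b : ℕ, x ^ a = x ^ b → (a : ZMod r) = b := fun a b h => by
    rw [ZMod.natCast_eq_natCast_iff, ← hx]; exact pow_eq_pow_iff_modEq.1 h
  let jm : N →* ZMod r :=
    { toFun := fun g => (J g : ZMod r)
      map_one' := (hcast _ 1 (by rw [← hJ 1]; simp)).trans Nat.cast_one
      map_mul' := fun g h => by
        rw [← Nat.cast_mul]
        refine hcast _ _ ?_
        rw [← hJ (g * h), pow_mul, ← hJ g, conj_pow, ← hJ h]
        push_cast
        group }
  have hsix : ∀ g : N, jm g ^ 6 = 1 := by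
    intro g
    show (J g : ZMod r) ^ 6 = 1
    have h0 : (J g : ZMod r) ≠ 0 := fun e => by
      have := hcast (J g) (J g) rfl
      have h1 : x ^ J g = 1 := orderOf_dvd_iff_pow_eq_one.1 (hx ▸ (ZMod.natCast_eq_zero_iff _ _).1 e)
      have h2 : x = 1 := conj_eq_one_iff.1 ((hJ g).trans h1)
      rw [h2, orderOf_one] at hx
      exact hr.ne_one hx.symm
    refine pow_six_eq_one hprim.eq_orderOf.symm h0 fun i => ?_
    have := hj (incl (g : GG)⁻¹) (J g) (by rw [← map_pow, ← hJ g, map_mul, map_mul]; simp) i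
    exact this.trans (by decide +kernel)
  let ju := jm.toHomUnits
  refine ⟨Nat.card ju.range, ?_, ?_⟩
  · rw [← IsCyclic.exponent_eq_card]
    refine Monoid.exponent_dvd_of_forall_pow_eq_one ?_
    rintro ⟨_, g, rfl⟩
    exact Subtype.ext (Units.ext (hsix g))
  · have hker : ju.ker = C.subgroupOf N := by
      ext g
      rw [MonoidHom.mem_ker, Subgroup.mem_subgroupOf, hC, Subgroup.mem_centralizer_singleton_iff,
        ← mul_inv_eq_iff_eq_mul, hJ g, Units.ext_iff]
      show (J g : ZMod r) = 1 ↔ _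
      constructor
      · intro h
        rw [← Nat.cast_one, ZMod.natCast_eq_natCast_iff, ← hx, ← pow_eq_pow_iff_modEq] at h
        rw [h, pow_one]
      · intro h
        exact (hcast _ 1 (by rw [h, pow_one])).trans Nat.cast_one
    rw [Subgroup.card_eq_card_quotient_mul_card_subgroup ju.ker,
      Nat.card_congr (QuotientGroup.quotientKerEquivRange ju).toEquiv, hker,
      Nat.card_congr (Subgroup.subgroupOfEquivOfLe (Subgroup.le_normalizer : C ≤ N)).toEquiv]

include R in
/-- all nontrivial elements of such a centraliser have the same centraliser -/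
theorem hall_centralizer (hm : 1 ≤ m) {x : GG} {r : ℕ} (hr : r.Prime) (hd : r ∣ MK)
    (hx : orderOf x = r) {y : GG} (hy : y ∈ Subgroup.centralizer ({x} : Set GG)) (hy1 : y ≠ 1) :
    Subgroup.centralizer ({y} : Set GG) = Subgroup.centralizer {x} := by
  obtain ⟨hcyc, hcard, -⟩ := hall_facts R hm hr hd hx
  haveI := hcyc
  have habel : ∀ a ∈ Subgroup.centralizer ({x} : Set GG), ∀ b ∈ Subgroup.centralizer ({x} : Set GG),
      a * b = b * a := fun a ha b hb => by
    letI := IsCyclic.commGroup (α := Subgroup.centralizer ({x} : Set GG))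
    exact congrArg Subtype.val (mul_comm (⟨a, ha⟩ : Subgroup.centralizer ({x} : Set GG)) ⟨b, hb⟩)
  refine le_antisymm ?_ fun z hz => Subgroup.mem_centralizer_singleton_iff.2 (habel z hz y hy)
  have h1 : orderOf y ≠ 1 := fun h => hy1 (orderOf_eq_one_iff.1 h)
  obtain ⟨s, hs, hsd⟩ := Nat.exists_prime_and_dvd h1
  have hsM : s ∣ MK := hsd.trans ((Subgroup.orderOf_dvd_natCard _ hy).trans hcard)
  have ho := orderOf_pow_orderOf_div (orderOf_pos y).ne' hsd
  set z := y ^ (orderOf y / s)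
  obtain ⟨hcz, -, -⟩ := hall_facts R hm hs hsM ho
  haveI := hcz
  have hxz : x ∈ Subgroup.centralizer ({z} : Set GG) :=
    Subgroup.mem_centralizer_singleton_iff.2 (habel _ (Subgroup.mem_centralizer_singleton_iff.2 rfl) _ (pow_mem hy _))
  intro w hw
  have hwz : w ∈ Subgroup.centralizer ({z} : Set GG) := Subgroup.mem_centralizer_singleton_iff.2
    ((Commute.pow_right (Subgroup.mem_centralizer_singleton_iff.1 hw) _).eq)
  letI := IsCyclic.commGroup (α := Subgroup.centralizer ({z} : Set GG))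
  exact Subgroup.mem_centralizer_singleton_iff.2
    (congrArg Subtype.val (mul_comm (⟨w, hwz⟩ : Subgroup.centralizer ({z} : Set GG)) ⟨x, hxz⟩))

end CfsgLib.Lie.Chev.TG2
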