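import Cfsg.Agent.Lib.Lie.Chev.Tw.Ree.Tori.Borel
import Mathlib.GroupTheory.Perm.Cycle.Type

/-!
# ²G₂(q): one class of involutions
-/

set_option autoImplicit false
set_option maxRecDepth 100000

namespace CfsgLib.Lie.Chev.TG2

open Cfsg.Lie
open scoped MatrixGroups

variable {K : Type*} [Field K] [Fintype K] [CharP K 3] {θ : K ≃+* K} {m : ℕ} (R : Ree θ m)

include R in
/-- a subgroup fixed pointwise by an odd order element acting like a seven-cycle -/
theorem isConj_of_mem_sylow (S : Sylow 2 ↥(twistedG2 K (3 ^ m))) {i j : ↥(twistedG2 K (3 ^ m))}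
    (hi : i ∈ S) (hj : j ∈ S) (hi1 : i ≠ 1) (hj1 : j ≠ 1) : IsConj i j := by
  classical
  haveI := Fact.mk (show Nat.Prime 7 by norm_num)
  set P : Subgroup ↥(twistedG2 K (3 ^ m)) := S.toSubgroup with hP
  set N := Subgroup.normalizer (P : Set ↥(twistedG2 K (3 ^ m))) with hN
  obtain ⟨g, hg⟩ := exists_prime_orderOf_dvd_card' (G := N) 7 (by rw [(sylow_facts R S).2]; norm_num)
  haveI := Fintype.ofFinite P
  have hcard : Fintype.card P = 8 := by
    rw [← Nat.card_eq_fintype_card]; exact (sylow_two R S).1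
  let σ : Equiv.Perm P := (MulAut.conjNormal (H := P.subgroupOf N) g).toEquiv |> fun e =>
    (Subgroup.subgroupOfEquivOfLe (Subgroup.le_normalizer : P ≤ N)).toEquiv.permCongr e
  have hσ : ∀ x : P, ((σ x : P) : ↥(twistedG2 K (3 ^ m))) = (g : ↥(twistedG2 K (3 ^ m))) * x * (g : ↥(twistedG2 K (3 ^ m)))⁻¹ := fun x => rfl
  have hσn : ∀ (n : ℕ) (x : P), ((σ ^ n) x : ↥(twistedG2 K (3 ^ m))) =
      ((g : ↥(twistedG2 K (3 ^ m))) ^ n) * x * ((g : ↥(twistedG2 K (3 ^ m))) ^ n)⁻¹ := by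
    intro n
    induction n with
    | zero => intro x; simp
    | succ n ih => intro x; rw [pow_succ, Equiv.Perm.mul_apply, ih, hσ, pow_succ]; group
  have hgo : orderOf (g : ↥(twistedG2 K (3 ^ m))) = 7 := by rw [Subgroup.orderOf_coe, hg]
  have h7 : σ ^ 7 = 1 := by
    ext x
    rw [hσn, ← hgo, pow_orderOf_eq_one]
    simp
  have hne : σ ≠ 1 := by
    intro h
    have hc : (g : ↥(twistedG2 K (3 ^ m))) ∈ P := by
      refine (sylow_facts R S).1.le ?_
      rw [Subgroup.mem_centralizer_iff]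
      intro x hx
      have := hσ ⟨x, hx⟩
      rw [h] at this
      exact eq_mul_inv_iff_mul_eq.1 this
    have := orderOf_dvd_of_pow_eq_one (n := 2) ((pow_two _).trans ((sylow_two R S).2 _ hc))
    rw [hgo] at this
    norm_num at this
  have ho : orderOf σ = 7 := orderOf_eq_prime h7 hne
  have hc : σ.IsCycle := Equiv.Perm.isCycle_of_prime_order' (ho.symm ▸ by norm_num) (by rw [hcard, ho]; norm_num)
  have hsupp : σ.support = ({1} : Finset P)ᶜ := by
    refine Finset.eq_of_subset_of_card_le (fun x hx => ?_) ?_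
    · simp only [Finset.mem_compl, Finset.mem_singleton]
      rintro rfl
      exact Equiv.Perm.mem_support.1 hx (Subtype.ext (by rw [hσ]; simp))
    · rw [Finset.card_compl, Finset.card_singleton, hcard, ← hc.orderOf, ho]
  have hmove : ∀ x : P, x ≠ 1 → σ x ≠ x := fun x hx => by
    rw [← Equiv.Perm.mem_support, hsupp]; simp [hx]
  obtain ⟨n, -, hn⟩ := (hc.sameCycle (hmove ⟨i, hi⟩ fun h => hi1 (congrArg Subtype.val h))
    (hmove ⟨j, hj⟩ fun h => hj1 (congrArg Subtype.val h))).exists_pow_eq'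
  refine isConj_iff.2 ⟨(g : ↥(twistedG2 K (3 ^ m))) ^ n, ?_⟩
  rw [← hσn n ⟨i, hi⟩, hn]

include R in
theorem invol_conj {i : ↥(twistedG2 K (3 ^ m))} (hi : i * i = 1) (h1 : i ≠ 1) :
    IsConj (ia R) i := by
  have hp : ∀ z : ↥(twistedG2 K (3 ^ m)), z * z = 1 → IsPGroup 2 (Subgroup.zpowers z) := fun z hz => by
    obtain ⟨k, -, hk⟩ := (Nat.dvd_prime_pow Nat.prime_two (m := 1)).1
      (by simpa using orderOf_dvd_of_pow_eq_one ((pow_two z).trans hz))
    exact IsPGroup.of_card (n := k) (by rw [Nat.card_zpowers, hk])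
  haveI := Fact.mk Nat.prime_two
  obtain ⟨S, hS⟩ := (hp _ (ia_sq R)).exists_le_sylow
  obtain ⟨T, hT⟩ := (hp _ hi).exists_le_sylow
  obtain ⟨c, rfl⟩ := MulAction.exists_smul_eq ↥(twistedG2 K (3 ^ m)) S T
  have h := hT (Subgroup.mem_zpowers i)
  rw [Sylow.coe_subgroup_smul, Subgroup.mem_pointwise_smul_iff_inv_smul_mem] at h
  have h' : c⁻¹ * i * c ∈ (S : Subgroup ↥(twistedG2 K (3 ^ m))) := by simpa [MulAut.smul_def] using h
  refine (isConj_of_mem_sylow R S (hS (Subgroup.mem_zpowers _)) h' (ia_ne_one R) fun e => h1 ?_).trans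
    (isConj_iff.2 ⟨c, by group⟩)
  calc i = c * (c⁻¹ * i * c) * c⁻¹ := by group
    _ = 1 := by rw [e]; group

theorem exists_conj_invol {i : ↥(twistedG2 K (3 ^ m))} (hi : i * i = 1) (h1 : i ≠ 1) :
    ∃ c, c * ia R * c⁻¹ = i := isConj_iff.1 (invol_conj R hi h1)

end CfsgLib.Lie.Chev.TG2
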