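import Cfsg.Agent.Lib.Lie.Chev.Tw.Ree.Tori.Count

/-!
# ²G₂(q): the four cyclic tori, element orders, counts, conjugacy and centralisers
-/

set_option autoImplicit false
set_option maxRecDepth 100000

namespace CfsgLib.Lie.Chev.TG2

open Cfsg.Lie
open CfsgLib.PSL2Two (π)
open scoped MatrixGroups

/-- centralisers and conjugation -/
theorem centralizer_map_conj {G : Type*} [Group G] (H : Subgroup G) (g : G) :
    Subgroup.centralizer ((H.map (MulAut.conj g).toMonoidHom : Subgroup G) : Set G) =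
      (Subgroup.centralizer (H : Set G)).map (MulAut.conj g).toMonoidHom := by
  ext x
  rw [Subgroup.mem_map_equiv, Subgroup.mem_centralizer_iff, Subgroup.mem_centralizer_iff]
  constructor
  · intro h y hy
    apply (MulAut.conj g).injective
    rw [map_mul, map_mul, MulEquiv.apply_symm_apply]
    exact h _ ⟨y, hy, rfl⟩
  · rintro h _ ⟨y, hy, rfl⟩
    apply (MulAut.conj g).symm.injective
    rw [map_mul, map_mul]
    show (MulAut.conj g).symm (MulAut.conj g y) * _ = _ * (MulAut.conj g).symm (MulAut.conj g y)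
    rw [MulEquiv.symm_apply_apply]
    exact h y hy

theorem exists_order_of_dvd {G : Type*} [Group G] [Finite G] {d N : ℕ} (h : d ∣ N)
    (hex : ∃ g : G, orderOf g = N) : ∃ g : G, orderOf g = d := by
  obtain ⟨g, rfl⟩ := hex
  exact ⟨g ^ (orderOf g / d), orderOf_pow_orderOf_div (orderOf_pos g).ne' h⟩

theorem card_order_cyclic {G : Type*} [Group G] [Finite G] {A : Subgroup G} (hA : IsCyclic A) {i : ℕ}
    (hi : i ∣ Nat.card A) : Nat.card {a : G // a ∈ A ∧ orderOf a = i} = Nat.totient i := by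
  classical
  haveI := hA
  haveI := Fintype.ofFinite A
  rw [← Nat.card_congr (Equiv.subtypeSubtypeEquivSubtypeInter (fun a => a ∈ A) (fun a => orderOf a = i))]
  simp only [Subgroup.orderOf_coe]
  rw [Nat.card_eq_fintype_card, Fintype.card_subtype,
    IsCyclic.card_orderOf_eq_totient (by rw [← Nat.card_eq_fintype_card]; exact hi)]

variable {K : Type*} [Field K] [Fintype K] {m : ℕ}

set_option quotPrecheck false
local notation "GG" => ↥(twistedG2 K (3 ^ m))

theorem exists_ree (hK : Fintype.card K = 3 ^ (2 * m + 1)) :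
    ∃ (_ : CharP K 3) (θ : K ≃+* K), Ree θ m := by
  obtain ⟨hc, θ, hcu, hθ, hneg⟩ := exists_theta hK
  exact ⟨hc, θ, ⟨hcu, hθ, hneg, hK⟩⟩

theorem four_tori (hm : 1 ≤ m) (hK : Fintype.card K = 3 ^ (2 * m + 1)) :
    (∃ A : Subgroup GG, TICount.TorusData A ((3 ^ (2 * m + 1) - 1) / 2) (2 * (3 ^ (2 * m + 1) - 1))) ∧
    (∃ A : Subgroup GG, TICount.TorusData A ((3 ^ (2 * m + 1) + 1) / 4) (6 * (3 ^ (2 * m + 1) + 1))) ∧
    (∃ A : Subgroup GG, TICount.TorusData A (3 ^ (2 * m + 1) - 3 ^ (m + 1) + 1)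
      (6 * (3 ^ (2 * m + 1) - 3 ^ (m + 1) + 1))) ∧
    (∃ A : Subgroup GG, TICount.TorusData A (3 ^ (2 * m + 1) + 3 ^ (m + 1) + 1)
      (6 * (3 ^ (2 * m + 1) + 3 ^ (m + 1) + 1))) := by
  obtain ⟨hc, θ, R⟩ := exists_ree hK
  obtain ⟨⟨A, hA⟩, ⟨B, hB⟩⟩ := exists_hall R hm
  rw [← hK]
  exact ⟨⟨_, oT_data R hm⟩, ⟨_, cT_data R hm⟩, ⟨A, hA.data⟩, ⟨B, hB.data⟩⟩

theorem tori_statement (hm : 1 ≤ m) (hK : Fintype.card K = 3 ^ (2 * m + 1)) :
    ∀ kn ∈ ({((3 ^ (2 * m + 1) - 1) / 2, 2 * (3 ^ (2 * m + 1) - 1)), ((3 ^ (2 * m + 1) + 1) / 4, 6 * (3 ^ (2 * m + 1) + 1)),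
        (3 ^ (2 * m + 1) - 3 ^ (m + 1) + 1, 6 * (3 ^ (2 * m + 1) - 3 ^ (m + 1) + 1)),
        (3 ^ (2 * m + 1) + 3 ^ (m + 1) + 1, 6 * (3 ^ (2 * m + 1) + 3 ^ (m + 1) + 1))} : Set (ℕ × ℕ)),
      ∃ A : Subgroup GG, IsCyclic A ∧ Nat.card A = kn.1 ∧
        Nat.card (Subgroup.normalizer (A : Set GG)) = kn.2 ∧
        ∀ A₀ : Subgroup GG, A₀ ≤ A → A₀ ≠ ⊥ →
          Subgroup.normalizer (A₀ : Set GG) = Subgroup.normalizer (A : Set GG) := by
  obtain ⟨⟨A, hA⟩, ⟨B, hB⟩, ⟨C, hC⟩, ⟨D, hD⟩⟩ := four_tori hm hK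
  intro kn hkn
  simp only [Set.mem_insert_iff, Set.mem_singleton_iff] at hkn
  rcases hkn with rfl | rfl | rfl | rfl
  exacts [⟨A, hA.cyc, hA.card, hA.normCard, hA.normSub⟩, ⟨B, hB.cyc, hB.card, hB.normCard, hB.normSub⟩,
    ⟨C, hC.cyc, hC.card, hC.normCard, hC.normSub⟩, ⟨D, hD.cyc, hD.card, hD.normCard, hD.normSub⟩]

theorem conj_statement (hm : 1 ≤ m) (hK : Fintype.card K = 3 ^ (2 * m + 1)) (d : ℕ)
    (hd : d ∣ (3 ^ (2 * m + 1) - 1) / 2 ∨ d ∣ (3 ^ (2 * m + 1) + 1) / 4 ∨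
      d ∣ 3 ^ (2 * m + 1) - 3 ^ (m + 1) + 1 ∨ d ∣ 3 ^ (2 * m + 1) + 3 ^ (m + 1) + 1)
    (A B : Subgroup GG) (hA : IsCyclic A) (hB : IsCyclic B) (hAd : Nat.card A = d) (hBd : Nat.card B = d) :
    ∃ g : GG, B = A.map (MulAut.conj g).toMonoidHom := by
  obtain ⟨⟨T, hT⟩, ⟨T', hT'⟩, ⟨U, hU⟩, ⟨U', hU'⟩⟩ := four_tori hm hK
  subst hAd
  rcases hd with h | h | h | h
  exacts [hT.conj_cyclic hA hB h hBd, hT'.conj_cyclic hA hB h hBd, hU.conj_cyclic hA hB h hBd,
    hU'.conj_cyclic hA hB h hBd]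

theorem order_statement (hm : 1 ≤ m) (hK : Fintype.card K = 3 ^ (2 * m + 1)) (d : ℕ) :
    (∃ g : GG, orderOf g = d) ↔
      (d ∣ 6 ∨ d ∣ 9 ∨ d ∣ 3 ^ (2 * m + 1) - 1 ∨ d ∣ (3 ^ (2 * m + 1) + 1) / 2 ∨
        d ∣ 3 ^ (2 * m + 1) - 3 ^ (m + 1) + 1 ∨ d ∣ 3 ^ (2 * m + 1) + 3 ^ (m + 1) + 1) := by
  classical
  obtain ⟨hc, θ, R⟩ := exists_ree hK
  obtain ⟨⟨A, hA⟩, ⟨B, hB⟩⟩ := exists_hall R hm
  obtain ⟨n, hn⟩ := card_K_eq R
  rw [← hK]
  constructor
  · rintro ⟨g, rfl⟩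
    rcases eq_or_ne g 1 with rfl | hg
    · exact Or.inl (by simp)
    rcases order_cases R hm hg with h | h | h | h | h
    · obtain ⟨c, hc⟩ := exists_conj_gB R h
      have e : orderOf (c⁻¹ * g * c) = orderOf g := by
        rw [show c⁻¹ * g * c = MulAut.conj c⁻¹ g by simp, MulEquiv.orderOf_eq]
      rcases gB_orderOf R hc (e.symm ▸ h) with h' | h' | h' <;> rw [e] at h' <;> rw [h']
      · exact Or.inl (by norm_num)
      · exact Or.inl dvd_rfl
      · exact Or.inr (Or.inl dvd_rfl)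
    · exact Or.inl (h.dvd.trans (by norm_num))
    · exact Or.inr (Or.inr (Or.inl h.2))
    · exact Or.inr (Or.inr (Or.inr (Or.inl h.2)))
    · obtain ⟨s, hs, hso⟩ := Nat.exists_prime_and_dvd (fun e => hg (orderOf_eq_one_iff.1 e))
      have hsM := hso.trans h
      rw [← (sqrt_identity R).2.1] at hsM
      rcases (Nat.Prime.dvd_mul hs).1 hsM with h' | h'
      · exact Or.inr (Or.inr (Or.inr (Or.inr (Or.inl (class_absorb R hA hm hg hs h' hso)))))
      · exact Or.inr (Or.inr (Or.inr (Or.inr (Or.inr (class_absorb R hB hm hg hs h' hso)))))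
  · have hpos : 0 < Fintype.card K ^ 2 * (Fintype.card K - 1) :=
      Nat.mul_pos (pow_pos Fintype.card_pos 2) (by omega)
    rintro (h | h | h | h | h | h) <;> refine exists_order_of_dvd h ?_
    · rw [← card_gB_six R, Nat.card_pos_iff] at hpos
      obtain ⟨z, -, hz⟩ := hpos.1.some
      exact ⟨z, hz⟩
    · rw [← card_gB_nine R, Nat.card_pos_iff] at hpos
      obtain ⟨z, -, hz⟩ := hpos.1.some
      exact ⟨z, hz⟩
    · obtain ⟨y, hy⟩ := IsCyclic.exists_ofOrder_eq_natCard (α := Kˣ)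
      exact ⟨he R y, by rw [orderOf_injective _ (he_injective R), hy, Nat.card_units, Nat.card_eq_fintype_card]⟩
    · refine ⟨zHom R (1, π (ellGen K)), ?_⟩
      rw [orderOf_injective _ (zHom_injective R), Prod.orderOf_mk, orderOf_one, Nat.lcm_one_left,
        orderOf_π_ell R hn]
      omega
    · haveI := hA.data.cyc
      obtain ⟨y, hy⟩ := IsCyclic.exists_ofOrder_eq_natCard (α := A)
      exact ⟨y, by rw [Subgroup.orderOf_coe, hy, hA.data.card]⟩
    · haveI := hB.data.cyc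
      obtain ⟨y, hy⟩ := IsCyclic.exists_ofOrder_eq_natCard (α := B)
      exact ⟨y, by rw [Subgroup.orderOf_coe, hy, hB.data.card]⟩

theorem count_statement (hm : 1 ≤ m)
    (hK : Fintype.card K = 3 ^ (2 * m + 1)) :
    Nat.card {g : GG // orderOf g = 2} = (3 ^ (2 * m + 1)) ^ 2 * ((3 ^ (2 * m + 1)) ^ 2 - 3 ^ (2 * m + 1) + 1) ∧
    Nat.card {g : GG // orderOf g = 3} = ((3 ^ (2 * m + 1)) ^ 2 - 1) * ((3 ^ (2 * m + 1)) ^ 3 + 1) ∧
    Nat.card {g : GG // orderOf g = 6} = (3 ^ (2 * m + 1)) ^ 2 * (3 ^ (2 * m + 1) - 1) * ((3 ^ (2 * m + 1)) ^ 3 + 1) ∧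
    Nat.card {g : GG // orderOf g = 9} = (3 ^ (2 * m + 1)) ^ 2 * (3 ^ (2 * m + 1) - 1) * ((3 ^ (2 * m + 1)) ^ 3 + 1) ∧
    (∀ i : ℕ, 2 < i → i ∣ 3 ^ (2 * m + 1) - 1 →
      2 * Nat.card {g : GG // orderOf g = i} = Nat.totient i * (3 ^ (2 * m + 1)) ^ 3 * ((3 ^ (2 * m + 1)) ^ 3 + 1)) ∧
    (∀ i : ℕ, 1 < i → i ∣ (3 ^ (2 * m + 1) + 1) / 4 →
      6 * Nat.card {g : GG // orderOf g = i} =
          Nat.totient i * (3 ^ (2 * m + 1)) ^ 3 * (3 ^ (2 * m + 1) - 1) * ((3 ^ (2 * m + 1)) ^ 2 - 3 ^ (2 * m + 1) + 1) ∧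
        2 * Nat.card {g : GG // orderOf g = 2 * i} =
          Nat.totient i * (3 ^ (2 * m + 1)) ^ 3 * (3 ^ (2 * m + 1) - 1) * ((3 ^ (2 * m + 1)) ^ 2 - 3 ^ (2 * m + 1) + 1)) ∧
    (∀ i : ℕ, 1 < i → i ∣ 3 ^ (2 * m + 1) - 3 ^ (m + 1) + 1 →
      6 * Nat.card {g : GG // orderOf g = i} =
        Nat.totient i * (3 ^ (2 * m + 1)) ^ 3 * ((3 ^ (2 * m + 1)) ^ 2 - 1) * (3 ^ (2 * m + 1) + 3 ^ (m + 1) + 1)) ∧
    (∀ i : ℕ, 1 < i → i ∣ 3 ^ (2 * m + 1) + 3 ^ (m + 1) + 1 →
      6 * Nat.card {g : GG // orderOf g = i} =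
        Nat.totient i * (3 ^ (2 * m + 1)) ^ 3 * ((3 ^ (2 * m + 1)) ^ 2 - 1) * (3 ^ (2 * m + 1) - 3 ^ (m + 1) + 1)) := by
  classical
  obtain ⟨hc, θ, R⟩ := exists_ree hK
  obtain ⟨⟨A, hA⟩, ⟨B, hB⟩⟩ := exists_hall R hm
  obtain ⟨n, hn⟩ := card_K_eq R
  obtain ⟨hM1, hM2⟩ := hall_identity R
  obtain ⟨hs1, hs2, hs3⟩ := sqrt_identity R
  have hG := card_group R
  have hq := card_K_ge R hm
  rw [← hK]
  set q := Fintype.card K with hqdef
  have hsq : q ^ 2 - 1 = (q - 1) * (q + 1) := by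
    rw [mul_comm, ← Nat.sq_sub_sq, one_pow]
  refine ⟨card_invol R, ?_, ?_, ?_, ?_, ?_, ?_, ?_⟩
  · rw [count_of_gB R hm 3 dvd_rfl, card_gB_three R]; ring
  · rw [count_of_gB R hm 6 (by norm_num), card_gB_six R]; ring
  · rw [count_of_gB R hm 9 (by norm_num), card_gB_nine R]; ring
  · intro i hi hid
    rw [count_split R hm (fun g => orderOf g = i) (fun g x hx => conj_stable (· = i) g x hx)
      (fun x hx => ⟨hx.symm ▸ hi, hx.symm ▸ hid⟩), card_order_cyclic (gH_cyclic R) (by rw [card_gH R]; exact hid)]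
    ring
  · intro i hi hid
    have hodd : i % 2 = 1 := by
      obtain ⟨j, hj⟩ := hid
      rw [show (q + 1) / 4 = 2 * n + 1 by omega] at hj
      by_contra hne
      have : i * j % 2 = 0 := by rw [Nat.mul_mod, show i % 2 = 0 by omega]; simp
      omega
    constructor
    · have h := (cT_data R hm).count hi hid
      rw [hG, hM2] at h
      refine Nat.eq_of_mul_eq_mul_left (show 0 < q + 1 by omega) ?_
      calc (q + 1) * (6 * _) = 6 * (q + 1) * _ := by ring
        _ = _ := h.trans (by ring)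
    · have hP : Nat.card {a : GG // a ∈ eT R ∧ orderOf a = 2 * i} = 3 * Nat.totient i := by
        have h3 : Nat.card {x : eE R // x ≠ 1} = 3 := by
          haveI := Fintype.ofFinite (eE R)
          rw [Nat.card_eq_fintype_card, Fintype.card_subtype_compl, Fintype.card_subtype_eq,
            ← Nat.card_eq_fintype_card, card_eE R]
        refine Eq.trans ?_ (congrArg (· * Nat.totient i) h3)
        rw [← card_order_cyclic (cT_cyclic R) (i := i) (by rw [card_cT R]; exact hid), ← Nat.card_prod]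
        have hcop : Nat.Coprime 2 i := (Nat.Prime.coprime_iff_not_dvd Nat.prime_two).2 (by omega)
        have he2 : ∀ e : {x : eE R // x ≠ 1}, orderOf (e.1.1 : GG) = 2 := fun e =>
          orderOf_eq_prime ((pow_two _).trans e.1.2.2) fun h => e.2 (Subtype.ext h)
        symm
        refine Nat.card_eq_of_bijective (fun p : {x : eE R // x ≠ 1} × {a : GG // a ∈ cT R ∧ orderOf a = i} =>
          ⟨p.1.1.1 * p.2.1, mul_mem p.1.1.2.1 (cT_le R p.2.2.1), by
            rw [(show Commute (p.1.1.1 : GG) p.2.1 from eT_comm R p.1.1.2.1 (cT_le R p.2.2.1)).orderOf_mul_eq_mul_orderOf_of_coprime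
              (by rw [he2, p.2.2.2]; exact hcop), he2, p.2.2.2]⟩) ⟨?_, ?_⟩
        · rintro ⟨e, a⟩ ⟨e', a'⟩ h
          have h' : (e.1.1 : GG) * a.1 = e'.1.1 * a'.1 := congrArg Subtype.val h
          have hp : ∀ (e : {x : eE R // x ≠ 1}) (a : {a : GG // a ∈ cT R ∧ orderOf a = i}),
              ((e.1.1 : GG) * a.1) ^ i = e.1.1 := fun e a => by
            rw [(show Commute (e.1.1 : GG) a.1 from eT_comm R e.1.2.1 (cT_le R a.2.1)).mul_pow,
              show a.1 ^ i = 1 from orderOf_dvd_iff_pow_eq_one.1 a.2.2.dvd, mul_one,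
              show i = 2 * (i / 2) + 1 by omega, pow_succ, pow_mul, pow_two, e.1.2.2, one_pow, one_mul]
          have he' : (e.1.1 : GG) = e'.1.1 := by rw [← hp e a, h', hp e' a']
          rw [he'] at h'
          exact Prod.ext (Subtype.ext (Subtype.ext he')) (Subtype.ext (mul_left_cancel h'))
        · rintro ⟨x, hx, hxo⟩
          have h2i : x ^ (2 * i) = 1 := hxo ▸ pow_orderOf_eq_one x
          have he : x ^ i ∈ eE R := ⟨pow_mem hx i, by rw [← pow_add, ← two_mul, h2i]⟩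
          have hne : (⟨x ^ i, he⟩ : eE R) ≠ 1 := fun h => by
            have := Nat.le_of_dvd (by omega) (orderOf_dvd_of_pow_eq_one (congrArg Subtype.val h))
            omega
          have ho : orderOf (x ^ (i + 1)) = i := by
            rw [orderOf_pow, hxo]
            have : Nat.gcd (2 * i) (i + 1) = 2 := by
              rw [show i + 1 = 2 * (i / 2 + 1) by omega, Nat.gcd_mul_left]
              have : Nat.gcd i (i / 2 + 1) = 1 := by
                have h1 : Nat.gcd i (i / 2 + 1) ∣ i := Nat.gcd_dvd_left _ _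
                have h2 : Nat.gcd i (i / 2 + 1) ∣ i + 1 := by
                  rw [show i + 1 = 2 * (i / 2 + 1) by omega]
                  exact (Nat.gcd_dvd_right _ _).mul_left 2
                exact Nat.dvd_one.1 ((Nat.dvd_add_right h1).1 h2)
              rw [this]
            rw [this]
            omega
          have hcT : x ^ (i + 1) ∈ cT R := (mem_cT_iff R).2 ⟨pow_mem hx _,
            orderOf_dvd_iff_pow_eq_one.1 (ho.dvd.trans hid)⟩
          refine ⟨(⟨⟨x ^ i, he⟩, hne⟩, ⟨x ^ (i + 1), hcT, ho⟩), Subtype.ext ?_⟩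
          show x ^ i * x ^ (i + 1) = x
          rw [← pow_add, show i + (i + 1) = 2 * i + 1 by ring, pow_succ, h2i, one_mul]
      have h := count_ell R hm (fun g => orderOf g = 2 * i) (fun g x hx => conj_stable (· = 2 * i) g x hx)
        (fun x hx => ⟨by omega, by
          rw [hx, show (q + 1) / 2 = 2 * ((q + 1) / 4) by omega]; exact Nat.mul_dvd_mul_left 2 hid⟩)
      rw [hP] at h
      refine Nat.eq_of_mul_eq_mul_left (show 0 < 3 by norm_num) ?_
      calc 3 * (2 * _) = 6 * _ := by ring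
        _ = _ := h.trans (by ring)
  · intro i hi hid
    have h := hA.data.count hi hid
    rw [hG, hM2, ← hs2] at h
    refine Nat.eq_of_mul_eq_mul_left (show 0 < q - 3 ^ (m + 1) + 1 from Nat.succ_pos _) ?_
    calc (q - 3 ^ (m + 1) + 1) * (6 * _) = 6 * (q - 3 ^ (m + 1) + 1) * _ := by ring
      _ = _ := h.trans (by rw [hsq]; ring)
  · intro i hi hid
    have h := hB.data.count hi hid
    rw [hG, hM2, ← hs2] at h
    refine Nat.eq_of_mul_eq_mul_left (show 0 < q + 3 ^ (m + 1) + 1 from Nat.succ_pos _) ?_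
    calc (q + 3 ^ (m + 1) + 1) * (6 * _) = 6 * (q + 3 ^ (m + 1) + 1) * _ := by ring
      _ = _ := h.trans (by rw [hsq]; ring)

theorem centralizer_statement (hm : 1 ≤ m)
    (hK : Fintype.card K = 3 ^ (2 * m + 1)) (H : Subgroup GG) (hH : IsCyclic H) :
    (Nat.card H = (3 ^ (2 * m + 1) - 1) / 2 →
      IsCyclic ↥(Subgroup.centralizer (H : Set GG)) ∧
        Nat.card ↥(Subgroup.centralizer (H : Set GG)) = 3 ^ (2 * m + 1) - 1 ∧
        ∀ A : Subgroup GG, A ≤ H → A ≠ ⊥ →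
          Subgroup.centralizer (A : Set GG) = Subgroup.centralizer (H : Set GG)) ∧
    (Nat.card H = (3 ^ (2 * m + 1) + 1) / 4 →
      IsMulCommutative ↥(Subgroup.centralizer (H : Set GG)) ∧
        Nat.card ↥(Subgroup.centralizer (H : Set GG)) = 3 ^ (2 * m + 1) + 1 ∧
        (∀ x ∈ Subgroup.centralizer (H : Set GG), orderOf x ≠ 4) ∧
        ∀ A : Subgroup GG, A ≤ H → A ≠ ⊥ →
          Subgroup.centralizer (A : Set GG) = Subgroup.centralizer (H : Set GG)) := by
  classical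
  obtain ⟨hc, θ, R⟩ := exists_ree hK
  have hq := card_K_ge R hm
  rw [← hK]
  have sub : ∀ (T C : Subgroup GG) (g : GG), (∀ A, A ≤ T → A ≠ ⊥ → Subgroup.centralizer (A : Set GG) = C) →
      ∀ A : Subgroup GG, A ≤ T.map (MulAut.conj g).toMonoidHom → A ≠ ⊥ →
      Subgroup.centralizer (A : Set GG) = C.map (MulAut.conj g).toMonoidHom := by
    intro T C g hT A hA hne
    have e : (A.comap (MulAut.conj g).toMonoidHom).map (MulAut.conj g).toMonoidHom = A :=
      Subgroup.map_comap_eq_self_of_surjective (MulAut.conj g).surjective A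
    rw [← e, centralizer_map_conj, hT _ ?_ ?_]
    · intro x hx
      obtain ⟨y, hy, hxy⟩ := hA (show (MulAut.conj g) x ∈ A from hx)
      exact (MulAut.conj g).injective hxy ▸ hy
    · intro h
      exact hne (by rw [← e, h, Subgroup.map_bot])
  constructor
  · intro hcard
    obtain ⟨g, hg⟩ := (oT_data R hm).conj_cyclic (oT_cyclic R) hH (by rw [card_oT R]) (by rw [card_oT R, hcard])
    have hne : oT R ≠ ⊥ := fun h => by
      have := card_oT R; rw [h, Subgroup.card_bot] at this; omega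
    subst hg
    rw [centralizer_map_conj, oT_centralizer R le_rfl hne]
    refine ⟨?_, ?_, fun A hA hA1 => sub _ _ g (fun B hB hB1 => oT_centralizer R hB hB1) A hA hA1⟩
    · haveI := gH_cyclic R
      exact isCyclic_of_surjective
        (R.gp.gH.equivMapOfInjective (MulAut.conj g).toMonoidHom (MulAut.conj g).injective).toMonoidHom
        (MulEquiv.surjective _)
    · rw [Subgroup.card_map_of_injective (MulAut.conj g).injective, card_gH R]
  · intro hcard
    obtain ⟨g, hg⟩ := (cT_data R hm).conj_cyclic (cT_cyclic R) hH (by rw [card_cT R]) (by rw [card_cT R, hcard])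
    subst hg
    rw [centralizer_map_conj, cT_centralizer R hm le_rfl (cT_ne_bot R hm)]
    refine ⟨⟨⟨?_⟩⟩, ?_, ?_, fun A hA hA1 => sub _ _ g (fun B hB hB1 => cT_centralizer R hm hB hB1) A hA hA1⟩
    · rintro ⟨_, a, ha, rfl⟩ ⟨_, b, hb, rfl⟩
      refine Subtype.ext ?_
      show MulAut.conj g a * MulAut.conj g b = MulAut.conj g b * MulAut.conj g a
      rw [← map_mul, ← map_mul, eT_comm R ha hb]
    · rw [Subgroup.card_map_of_injective (MulAut.conj g).injective, card_eT R]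
    · rintro _ ⟨a, ha, rfl⟩
      show orderOf (MulAut.conj g a) ≠ 4
      rw [MulEquiv.orderOf_eq]
      exact eT_no_four R ha

end CfsgLib.Lie.Chev.TG2
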