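import Cfsg.Agent.Lib.Lie.Chev.Tw.Ree.Tori.Hall

/-!
# ²G₂(q): the element orders and the class sizes outside the Hall tori
-/

set_option autoImplicit false
set_option maxRecDepth 100000

namespace CfsgLib.Lie.Chev.TG2

open Cfsg.Lie
open scoped MatrixGroups

variable {K : Type*} [Field K] [Fintype K] [CharP K 3] {θ : K ≃+* K} {m : ℕ} (R : Ree θ m)

set_option quotPrecheck false
local notation "GG" => ↥(twistedG2 K (3 ^ m))
local notation "qK" => Fintype.card K
local notation "MK" => Fintype.card K ^ 2 - Fintype.card K + 1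

include R in
theorem hall_identity : MK + qK = qK ^ 2 + 1 ∧ qK ^ 3 + 1 = (qK + 1) * MK := by
  obtain ⟨a, ha⟩ : ∃ a, qK = a + 1 := ⟨qK - 1, by have := (card_K_facts R).1; omega⟩
  have h : qK ^ 2 - qK = a * a + a := by
    rw [ha, Nat.sub_eq_iff_eq_add (Nat.le_self_pow two_ne_zero _)]; ring
  rw [h, ha]
  constructor <;> ring

include R in
theorem card_group : Nat.card GG = qK ^ 3 * (qK - 1) * (qK ^ 3 + 1) := by
  rw [R.big]; exact (summary (K := K) R.big).2.2.2.1

include R in
theorem three_dvd_card : 3 ∣ qK := R.big ▸ dvd_pow_self 3 (Nat.succ_ne_zero _)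

include R in
/-- the five kinds of nontrivial elements -/
theorem order_cases (hm : 1 ≤ m) {g : GG} (hg : g ≠ 1) :
    3 ∣ orderOf g ∨ orderOf g = 2 ∨ (2 < orderOf g ∧ orderOf g ∣ qK - 1) ∨
      (2 < orderOf g ∧ orderOf g ∣ (qK + 1) / 2) ∨ orderOf g ∣ MK := by
  classical
  set o := orderOf g
  have ho1 : o ≠ 1 := fun h => hg (orderOf_eq_one_iff.1 h)
  by_cases h3 : 3 ∣ o
  · exact Or.inl h3
  have hodd := card_odd (K := K)
  obtain ⟨n, hn⟩ := card_K_eq R
  by_cases hex : ∃ r, r.Prime ∧ r ∣ o ∧ r ≠ 2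
  swap
  · push_neg at hex
    haveI := Fact.mk Nat.prime_two
    obtain ⟨k, hk⟩ : ∃ k, o = 2 ^ k := by
      refine ⟨o.factorization 2, ?_⟩
      conv_lhs => rw [← Nat.prod_factorization_pow_eq_self (show o ≠ 0 from (orderOf_pos g).ne')]
      rw [Finsupp.prod_of_support_subset (s := {2}) _ (fun p hp => ?_) _ (fun _ _ => pow_zero _)]
      · simp
      · rw [Nat.support_factorization, Nat.mem_primeFactors] at hp
        simpa using hex p hp.1 hp.2.1
    obtain ⟨S, hS⟩ := (IsPGroup.of_card (n := k) (show Nat.card (Subgroup.zpowers g) = 2 ^ k by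
      rw [Nat.card_zpowers, ← hk])).exists_le_sylow
    have h2 := (sylow_two R S).2 g (hS (Subgroup.mem_zpowers g))
    exact Or.inr (Or.inl (orderOf_eq_prime ((pow_two g).trans h2) hg))
  obtain ⟨r, hr, hro, hr2⟩ := hex
  haveI := Fact.mk hr
  have hrc : r ∣ qK ^ 3 * (qK - 1) * ((qK + 1) * MK) := by
    rw [← (hall_identity R).2, ← card_group R]
    exact hro.trans (orderOf_dvd_natCard g)
  have ho2 : 2 < o := by
    have := Nat.le_of_dvd (orderOf_pos g) hro
    have := hr.two_le
    omega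
  have hx := orderOf_pow_orderOf_div (orderOf_pos g).ne' hro
  set x := g ^ (o / r)
  have hcomm : ∀ c : GG, c⁻¹ * g * c ∈ Subgroup.centralizer ({c⁻¹ * x * c} : Set GG) := fun c => by
    rw [Subgroup.mem_centralizer_singleton_iff]
    calc c⁻¹ * g * c * (c⁻¹ * x * c) = c⁻¹ * (g * x) * c := by group
      _ = c⁻¹ * (x * g) * c := by rw [(Commute.self_pow g _).eq]
      _ = _ := by group
  have hord : ∀ c z : GG, orderOf (c⁻¹ * z * c) = orderOf z := fun c z => by
    rw [show c⁻¹ * z * c = MulAut.conj c⁻¹ z by simp, MulEquiv.orderOf_eq]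
  rcases (Nat.Prime.dvd_mul hr).1 hrc with h | h
  · rcases (Nat.Prime.dvd_mul hr).1 h with h | h
    · exfalso
      have h' := hr.dvd_of_dvd_pow h
      rw [R.big] at h'
      exact h3 (((Nat.prime_dvd_prime_iff_eq hr Nat.prime_three).1 (hr.dvd_of_dvd_pow h')) ▸ hro)
    · obtain ⟨c, hc⟩ := exists_conj_gH R hm (g := x) (by have := hr.two_le; omega) (hx ▸ h)
      obtain ⟨b, hb⟩ := (mem_gH_iff R).1 hc
      have hb2 : b * b ≠ 1 := fun e => by
        refine pow_two_ne_one R hr hr2 ((hord c x).trans hx) ?_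
        rw [hb, ← map_pow, pow_two, e, map_one]
      refine Or.inr (Or.inr (Or.inl ⟨ho2, ?_⟩))
      have hm' := hcomm c
      rw [hb, centralizer_he R hb2] at hm'
      have := Subgroup.orderOf_dvd_natCard _ hm'
      rwa [card_gH R, hord] at this
  · rcases (Nat.Prime.dvd_mul hr).1 h with h | h
    · have hd4 : orderOf x ∣ (qK + 1) / 4 := by
        rw [hx]
        have h4 : r ∣ 4 * ((qK + 1) / 4) := by rw [Nat.mul_div_cancel' (show 4 ∣ qK + 1 by omega)]; exact h
        rcases (Nat.Prime.dvd_mul hr).1 h4 with e | e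
        · exact absurd ((Nat.prime_dvd_prime_iff_eq hr Nat.prime_two).1 (hr.dvd_of_dvd_pow (show r ∣ 2 ^ 2 from e))) hr2
        · exact e
      obtain ⟨c, hc⟩ := (cT_data R hm).cover' x hd4
      have hm' := hcomm c
      rw [eT_centralizer_prime R hm (cT_le R hc) hr hr2 ((hord c x).trans hx)] at hm'
      refine Or.inr (Or.inr (Or.inr (Or.inl ⟨ho2, ?_⟩)))
      rw [show o = orderOf (c⁻¹ * g * c) from (hord c g).symm, show (qK + 1) / 2 = 4 * n + 2 by omega]
      exact orderOf_dvd_of_pow_eq_one (eT_pow R hm' hn)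
    · obtain ⟨-, hd, -⟩ := hall_facts R hm hr h hx
      refine Or.inr (Or.inr (Or.inr (Or.inr ((Subgroup.orderOf_dvd_natCard _ ?_).trans hd))))
      exact Subgroup.mem_centralizer_singleton_iff.2 (Commute.self_pow g _).eq

/-- the index identity for a centraliser or normaliser -/
theorem index_card {G : Type*} [Group G] {H : Subgroup G} {k : ℕ} (h : Nat.card H = k) :
    k * H.index = Nat.card G := h ▸ Subgroup.card_mul_index H

include R in
theorem card_invol : Nat.card {g : GG // orderOf g = 2} = qK ^ 2 * MK := by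
  classical
  have hord : orderOf (ia R) = 2 := orderOf_eq_prime ((pow_two _).trans (ia_sq R)) (ia_ne_one R)
  have hz : ∀ a ∈ Subgroup.zpowers (ia R), orderOf a = 2 → a = ia R := fun a ha h => by
    obtain ⟨k, hk⟩ := mem_powers_iff_mem_zpowers.2 ha
    rcases Nat.even_or_odd' k with ⟨j, rfl | rfl⟩
    · exfalso
      have : a = 1 := by rw [← hk]; show ia R ^ (2 * j) = 1; rw [pow_mul, pow_two, ia_sq, one_pow]
      rw [this, orderOf_one] at h
      omega
    · rw [← hk]; show ia R ^ (2 * j + 1) = ia R; rw [pow_succ, pow_mul, pow_two, ia_sq, one_pow, one_mul]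
  rw [TICount.card_conj (Subgroup.zpowers (ia R)) (fun g => orderOf g = 2)
    (fun g x hx => by rw [← MulAut.conj_apply, MulEquiv.orderOf_eq, hx])
    (fun x hx => by
      obtain ⟨c, hc⟩ := exists_conj_invol R (i := x) (by rw [← pow_two, ← hx, pow_orderOf_eq_one])
        (fun h => by rw [h, orderOf_one] at hx; omega)
      exact ⟨c, by rw [← hc]; convert Subgroup.mem_zpowers (ia R) using 1; group⟩)
    (fun a ha hP c hc => by
      obtain rfl := hz a ha hP
      have h := hz _ hc (by rw [← MulAut.conj_apply, MulEquiv.orderOf_eq, hord])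
      refine mem_normalizer_of_conj_mem fun z hz' => ?_
      obtain ⟨k, hk⟩ := hz'
      rw [← hk]
      show c * ia R ^ k * c⁻¹ ∈ _
      rw [← conj_zpow, h]
      exact zpow_mem (Subgroup.mem_zpowers _) k)]
  have h1 : Nat.card {a : GG // a ∈ Subgroup.zpowers (ia R) ∧ orderOf a = 2} = 1 := by
    rw [Nat.card_eq_one_iff_unique]
    exact ⟨⟨fun a b => Subtype.ext ((hz _ a.2.1 a.2.2).trans (hz _ b.2.1 b.2.2).symm)⟩,
      ⟨⟨ia R, Subgroup.mem_zpowers _, hord⟩⟩⟩
  have hN : Subgroup.normalizer (Subgroup.zpowers (ia R) : Set GG) = Subgroup.centralizer {ia R} := by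
    refine le_antisymm (fun g hg => ?_) fun g hg => mem_normalizer_of_conj_mem fun z hz' => ?_
    · rw [Subgroup.mem_centralizer_singleton_iff, ← mul_inv_eq_iff_eq_mul]
      exact hz _ ((Subgroup.mem_normalizer_iff.1 hg _).1 (Subgroup.mem_zpowers _))
        (by rw [← MulAut.conj_apply, MulEquiv.orderOf_eq, hord])
    · obtain ⟨k, hk⟩ := hz'
      rw [← hk]
      show g * ia R ^ k * g⁻¹ ∈ _
      rw [← conj_zpow, mul_inv_eq_iff_eq_mul.2 (Subgroup.mem_centralizer_singleton_iff.1 hg)]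
      exact zpow_mem (Subgroup.mem_zpowers _) k
  rw [h1, mul_one, hN]
  have hC : Nat.card (Subgroup.centralizer ({ia R} : Set GG)) = qK * (qK - 1) * (qK + 1) := by
    rw [centralizer_eq R, ← Nat.card_congr (MonoidHom.ofInjective (zHom_injective R)).toEquiv, card_psl_two]
    ring
  have hi := index_card hC
  rw [card_group R, (hall_identity R).2] at hi
  have hq := card_K_facts R
  refine Nat.eq_of_mul_eq_mul_left (show 0 < qK * (qK - 1) * (qK + 1) from
    Nat.mul_pos (Nat.mul_pos (by omega) (by omega)) (by omega)) (hi.trans ?_)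
  ring

theorem card_gB_three : Nat.card {z : GG // z ∈ R.gp.gB ∧ orderOf z = 3} = qK ^ 2 - 1 := by
  classical
  haveI := Fact.mk Nat.prime_three
  have hp0 : ∀ u v : K, pe R 0 u v ^ 3 = 1 := fun u v => by rw [pe_cube]; simp [pe_zero]
  have h1 : Nat.card {p : K × K // p ≠ 0} = qK ^ 2 - 1 := by
    rw [Nat.card_eq_fintype_card, Fintype.card_subtype_compl, Fintype.card_subtype_eq, Fintype.card_prod, pow_two]
  refine Eq.trans ?_ h1
  symm
  refine Nat.card_eq_of_bijective (fun p => ⟨pe R 0 p.1.1 p.1.2, R.gp.gU_le_gB (pe_mem_gU R _ _ _),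
    orderOf_eq_prime (hp0 _ _) fun h => p.2 (by
      obtain ⟨-, a, b⟩ := pe_inj R (h.trans (pe_zero R).symm)
      exact Prod.ext a b)⟩) ⟨fun p p' h => ?_, ?_⟩
  · obtain ⟨-, a, b⟩ := pe_inj R (congrArg Subtype.val h)
    exact Subtype.ext (Prod.ext a b)
  · rintro ⟨z, hz, ho⟩
    obtain ⟨t, u, v, rfl⟩ := (mem_gU_iff R).1
      (mem_gU_of_three R hz (k := 1) (orderOf_dvd_iff_pow_eq_one.1 (ho.dvd.trans (by norm_num))))
    have ht : t = 0 := by
      have h := pow_orderOf_eq_one (pe R t u v)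
      rw [ho, pe_cube, ← pe_zero R] at h
      simpa using (pe_inj R h).2.2
    subst ht
    exact ⟨⟨(u, v), fun h => by
      obtain ⟨rfl, rfl⟩ := Prod.ext_iff.1 h
      simp [pe_zero] at ho⟩, rfl⟩

theorem card_gB_nine : Nat.card {z : GG // z ∈ R.gp.gB ∧ orderOf z = 9} = qK ^ 2 * (qK - 1) := by
  classical
  haveI := Fact.mk Nat.prime_three
  have h1 : Nat.card ({t : K // t ≠ 0} × K × K) = qK ^ 2 * (qK - 1) := by
    rw [Nat.card_prod, Nat.card_prod, Nat.card_eq_fintype_card, Nat.card_eq_fintype_card,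
      Fintype.card_subtype_compl, Fintype.card_subtype_eq]
    ring
  refine Eq.trans ?_ h1
  symm
  refine Nat.card_eq_of_bijective (fun p => ⟨pe R p.1.1 p.2.1 p.2.2, R.gp.gU_le_gB (pe_mem_gU R _ _ _),
    orderOf_eq_prime_pow (p := 3) (n := 1) (fun h => p.1.2 (by
      rw [pow_one, pe_cube, ← pe_zero R] at h
      simpa using (pe_inj R h).2.2)) (gU_pow_nine R (pe_mem_gU R _ _ _))⟩) ⟨fun p p' h => ?_, ?_⟩
  · obtain ⟨a, b, c⟩ := pe_inj R (congrArg Subtype.val h)
    exact Prod.ext (Subtype.ext a) (Prod.ext b c)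
  · rintro ⟨z, hz, ho⟩
    obtain ⟨t, u, v, rfl⟩ := (mem_gU_iff R).1
      (mem_gU_of_three R hz (k := 2) (orderOf_dvd_iff_pow_eq_one.1 (ho.dvd.trans (by norm_num))))
    exact ⟨(⟨t, fun h => by
      subst h
      have := orderOf_dvd_of_pow_eq_one (show pe R 0 u v ^ 3 = 1 by rw [pe_cube]; simp [pe_zero])
      rw [ho] at this
      norm_num at this⟩, u, v), rfl⟩

theorem ia_mul_self_iff {t u v : K} :
    pe R t u v * ia R * (pe R t u v * ia R) = 1 ↔ u = θ.symm t * t := by
  have hinv : (ia R)⁻¹ = ia R := inv_eq_of_mul_eq_one_right (ia_sq R)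
  have h : ia R * pe R t u v * (ia R)⁻¹ = pe R (-t) u (-v) := by
    rw [ia, he_conj]
    congr 1
    · rw [wHom_val]; simp
    · rw [chiHom_val]; simp
    · simp
  rw [hinv] at h
  rw [show pe R t u v * ia R * (pe R t u v * ia R) = pe R t u v * (ia R * pe R t u v * ia R) by group, h,
    pe_mul]
  constructor
  · intro e
    have e2 := (pe_inj R (e.trans (pe_zero R).symm)).2.1
    rw [map_neg] at e2
    linear_combination u * three_zero (K := K) - e2
  · rintro rfl
    have h3 := three_zero (K := K)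
    rw [← pe_zero R, map_neg]
    congr 1
    · ring
    · linear_combination θ.symm t * t * h3
    · linear_combination (θ.symm t * t * t) * h3

theorem card_gB_six : Nat.card {z : GG // z ∈ R.gp.gB ∧ orderOf z = 6} = qK ^ 2 * (qK - 1) := by
  classical
  have h1 : Nat.card {p : K × K × K // p.2.1 ≠ θ.symm p.1 * p.1} = qK ^ 2 * (qK - 1) := by
    have e : {p : K × K × K // p.2.1 ≠ θ.symm p.1 * p.1} ≃ {t : K // t ≠ 0} × K × K :=
      { toFun := fun p => (⟨p.1.2.1 - θ.symm p.1.1 * p.1.1, sub_ne_zero.2 p.2⟩, p.1.1, p.1.2.2)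
        invFun := fun p => ⟨(p.2.1, p.1.1 + θ.symm p.2.1 * p.2.1, p.2.2), fun h => p.1.2 (add_eq_right.1 h)⟩
        left_inv := fun p => by simp
        right_inv := fun p => by simp }
    rw [Nat.card_congr e]
    rw [Nat.card_prod, Nat.card_prod, Nat.card_eq_fintype_card, Nat.card_eq_fintype_card,
      Fintype.card_subtype_compl, Fintype.card_subtype_eq]
    ring
  have hmem : ∀ t u v, pe R t u v * ia R ∈ R.gp.gB := fun t u v =>
    mul_mem (R.gp.gU_le_gB (pe_mem_gU R _ _ _)) (R.gp.gH_le_gB (he_mem R _))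
  have hnU : ∀ t u v, pe R t u v * ia R ∉ R.gp.gU := fun t u v h => ia_ne_one R
    (eq_one_of_gU_gH R ((Subgroup.mul_mem_cancel_left _ (pe_mem_gU R t u v)).1 h) (he_mem R _))
  refine Eq.trans ?_ h1
  symm
  refine Nat.card_eq_of_bijective (fun p => ⟨pe R p.1.1 p.1.2.1 p.1.2.2 * ia R, hmem _ _ _, ?_⟩)
    ⟨fun p p' h => ?_, ?_⟩
  · set z := pe R p.1.1 p.1.2.1 p.1.2.2 * ia R
    have hne : z * z ≠ 1 := fun h => p.2 ((ia_mul_self_iff R).1 h)
    have h18 : z ^ 18 = 1 := by
      obtain ⟨w', hw', e⟩ := pow_gB R (pe_mem_gU R p.1.1 p.1.2.1 p.1.2.2) (-1) 2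
      rw [neg_one_sq, map_one, mul_one] at e
      have hz : z = pe R p.1.1 p.1.2.1 p.1.2.2 * he R (-1) := rfl
      rw [show 18 = 2 * 9 from rfl, pow_mul, hz, e, gU_pow_nine R hw']
    have h3 : 3 ∣ orderOf z := by
      by_contra h3
      have : orderOf z ∣ 2 :=
        (((Nat.Prime.coprime_iff_not_dvd Nat.prime_three).2 h3).symm.pow_right 2).dvd_of_dvd_mul_right
          (show orderOf z ∣ 2 * 3 ^ 2 from orderOf_dvd_of_pow_eq_one h18)
      exact hne ((pow_two z).symm.trans (orderOf_dvd_iff_pow_eq_one.1 this))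
    rcases gB_orderOf R (hmem _ _ _) h3 with e | e | e
    · exact absurd (mem_gU_of_three R (hmem _ _ _) (k := 1) (orderOf_dvd_iff_pow_eq_one.1 (e.dvd.trans (by norm_num))))
        (hnU _ _ _)
    · exact e
    · exact absurd (mem_gU_of_three R (hmem _ _ _) (k := 2)
        (orderOf_dvd_iff_pow_eq_one.1 (e.dvd.trans (by norm_num)))) (hnU _ _ _)
  · obtain ⟨a, b, c⟩ := pe_inj R (mul_right_cancel (congrArg Subtype.val h))
    exact Subtype.ext (Prod.ext a (Prod.ext b c))
  · rintro ⟨z, hz, ho⟩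
    obtain ⟨w, hw, b, rfl⟩ := exists_gB R hz
    obtain ⟨t, u, v, rfl⟩ := (mem_gU_iff R).1 hw
    have hb2 : b * b = 1 := by
      by_contra hb
      obtain ⟨c, -, hc⟩ := exists_conj_he R hw hb
      refine (card_K_facts R).2.2 ?_
      rw [← Nat.card_eq_fintype_card (α := K), ← Nat.card_units]
      have : orderOf b = 6 := by
        rw [← orderOf_injective (he R) (he_injective R), ← hc,
          show c⁻¹ * (pe R t u v * he R b) * c = MulAut.conj c⁻¹ (pe R t u v * he R b) by simp,
          MulEquiv.orderOf_eq, ho]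
      exact (show 3 ∣ 6 by norm_num).trans (this ▸ orderOf_dvd_natCard b)
    have hb1 : b ≠ 1 := by
      rintro rfl
      rw [map_one, mul_one] at ho
      have := orderOf_dvd_of_pow_eq_one (gU_pow_nine R hw)
      rw [ho] at this
      norm_num at this
    have hb : he R b = ia R := eq_ia_of_sq R (he_mem R b) (by rw [← map_mul, hb2, map_one])
      (fun h => hb1 (he_injective R (h.trans (map_one _).symm)))
    refine ⟨⟨(t, u, v), fun h => ?_⟩, Subtype.ext (congrArg (pe R t u v * ·) hb.symm)⟩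
    have h2 : orderOf (pe R t u v * he R b) ∣ 2 :=
      orderOf_dvd_of_pow_eq_one (by rw [pow_two, hb]; exact (ia_mul_self_iff R).2 h)
    rw [ho] at h2
    norm_num at h2

include R in
theorem count_of_gB (hm : 1 ≤ m) (k : ℕ) (hk : 3 ∣ k) :
    Nat.card {g : GG // orderOf g = k} =
      (qK ^ 3 + 1) * Nat.card {z : GG // z ∈ R.gp.gB ∧ orderOf z = k} := by
  rw [TICount.card_conj R.gp.gB (fun g => orderOf g = k)
    (fun g x hx => by rw [← MulAut.conj_apply, MulEquiv.orderOf_eq, hx])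
    (fun x hx => exists_conj_gB R (hx ▸ hk))
    (fun a ha hP c hc => conj_three R ha (hP ▸ hk) c hc), normalizer_gB R]
  congr 1
  have hi := index_card (card_gB R)
  rw [card_group R] at hi
  have hq := card_K_facts R
  exact Nat.eq_of_mul_eq_mul_left (Nat.mul_pos (pow_pos (by omega) 3) (by omega)) hi

theorem count_split (hm : 1 ≤ m) (P : GG → Prop) (hP : ∀ g x, P x → P (g * x * g⁻¹))
    (hPo : ∀ x, P x → 2 < orderOf x ∧ orderOf x ∣ qK - 1) :
    2 * Nat.card {g : GG // P g} = qK ^ 3 * (qK ^ 3 + 1) * Nat.card {a : GG // a ∈ R.gp.gH ∧ P a} := by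
  rw [TICount.card_conj R.gp.gH P hP (fun x hx => exists_conj_gH R hm (hPo x hx).1 (hPo x hx).2)
    (fun a ha hPa c hc => by
      obtain ⟨y, rfl⟩ := (mem_gH_iff R).1 ha
      refine conj_gH R ?_ hc
      intro h
      have := orderOf_dvd_of_pow_eq_one (show he R y ^ 2 = 1 by rw [← map_pow, pow_two, h, map_one])
      have := Nat.le_of_dvd two_pos this
      have := (hPo _ hPa).1
      omega), ← mul_assoc]
  congr 1
  have hi := index_card (card_normalizer_gH R hm)
  rw [card_group R] at hi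
  have hq := card_K_facts R
  refine Nat.eq_of_mul_eq_mul_left (show 0 < qK - 1 by omega) ?_
  calc (qK - 1) * (2 * _) = 2 * (qK - 1) * _ := by ring
    _ = _ := hi.trans (by ring)

theorem count_ell (hm : 1 ≤ m) (P : GG → Prop) (hP : ∀ g x, P x → P (g * x * g⁻¹))
    (hPo : ∀ x, P x → 2 < orderOf x ∧ orderOf x ∣ (qK + 1) / 2) :
    6 * Nat.card {g : GG // P g} = qK ^ 3 * (qK - 1) * MK * Nat.card {a : GG // a ∈ eT R ∧ P a} := by
  classical
  obtain ⟨n, hn⟩ := card_K_eq R
  have hsq : ∀ a, P a → a ^ 2 ≠ 1 := fun a ha h => by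
    have := Nat.le_of_dvd two_pos (orderOf_dvd_of_pow_eq_one h)
    have := (hPo a ha).1
    omega
  rw [TICount.card_conj (eT R) P hP
    (fun x hx => by
      obtain ⟨h2, hd⟩ := hPo x hx
      obtain ⟨r, hr, hro, hr2⟩ := exists_odd_prime h2 (fun h4 => by have := h4.trans hd; omega)
      have hrd : r ∣ (qK + 1) / 4 := by
        have h4 : r ∣ 2 * ((qK + 1) / 4) := (hro.trans hd).trans (dvd_of_eq (by omega))
        exact ((Nat.Prime.dvd_mul hr).1 h4).resolve_left fun e =>
          hr2 ((Nat.prime_dvd_prime_iff_eq hr Nat.prime_two).1 e)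
      have hy := orderOf_pow_orderOf_div (orderOf_pos x).ne' hro
      set y := x ^ (orderOf x / r)
      obtain ⟨c, hc⟩ := (cT_data R hm).cover' y (hy ▸ hrd)
      refine ⟨c, ?_⟩
      have ho : orderOf (c⁻¹ * y * c) = r := by
        rw [show c⁻¹ * y * c = MulAut.conj c⁻¹ y by simp, MulEquiv.orderOf_eq, hy]
      rw [← eT_centralizer_prime R hm (cT_le R hc) hr hr2 ho, Subgroup.mem_centralizer_singleton_iff]
      calc c⁻¹ * x * c * (c⁻¹ * y * c) = c⁻¹ * (x * y) * c := by group
        _ = c⁻¹ * (y * x) * c := by rw [(Commute.self_pow x _).eq]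
        _ = _ := by group)
    (fun a ha hPa c hc => mem_normalizer_of_conj_mem fun z hz => by
      rw [← eT_centralizer R hm hc (hsq _ (hP c a hPa)), Subgroup.mem_centralizer_singleton_iff]
      calc c * z * c⁻¹ * (c * a * c⁻¹) = c * (z * a) * c⁻¹ := by group
        _ = c * (a * z) * c⁻¹ := by rw [eT_comm R hz ha]
        _ = _ := by group), ← mul_assoc]
  congr 1
  have hN : Subgroup.normalizer (eT R : Set GG) = Subgroup.normalizer (eE R : Set GG) := by
    refine le_antisymm (fun g hg => mem_normalizer_of_conj_mem (H := eE R) fun z hz =>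
      ⟨(Subgroup.mem_normalizer_iff.1 hg z).1 hz.1, ?_⟩) fun g hg => ?_
    · calc g * z * g⁻¹ * (g * z * g⁻¹) = g * (z * z) * g⁻¹ := by group
        _ = 1 := by rw [hz.2, mul_one, mul_inv_cancel]
    · have := normalizer_le_centralizer' _ (normalizer_eE_le R hm hg)
      rwa [cT_centralizer R hm le_rfl (cT_ne_bot R hm)] at this
  rw [hN]
  have hi := index_card (card_normalizer_eE R hm)
  rw [card_group R, (hall_identity R).2] at hi
  refine Nat.eq_of_mul_eq_mul_left (show 0 < qK + 1 by omega) ?_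
  calc (qK + 1) * (6 * _) = 6 * (qK + 1) * _ := by ring
    _ = _ := hi.trans (by ring)

end CfsgLib.Lie.Chev.TG2
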