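import Cfsg.Agent.Lib.Lie.Chev.Tw.Ree.SylowNorm
import Cfsg.Agent.Lib.Lie.Chev.Tw.Ree.Tori.TI

/-!
# ²G₂(q): the split torus
-/

set_option autoImplicit false
set_option maxRecDepth 100000

namespace CfsgLib.Lie.Chev.TG2

open Cfsg.Lie
open scoped MatrixGroups

variable {K : Type*} [Field K] [Fintype K] [CharP K 3] {θ : K ≃+* K} {m : ℕ} (R : Ree θ m)

theorem he_mem (b : Kˣ) : he R b ∈ R.gp.gH := (mem_gH_iff R).2 ⟨b, rfl⟩

theorem gH_eq_range : R.gp.gH = (he R).range := by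
  ext g
  rw [mem_gH_iff R, MonoidHom.mem_range]
  exact ⟨fun ⟨b, h⟩ => ⟨b, h.symm⟩, fun ⟨b, h⟩ => ⟨b, h.symm⟩⟩

theorem card_gH : Nat.card R.gp.gH = Fintype.card K - 1 := by
  rw [gH_eq_range R, ← Nat.card_congr (MonoidHom.ofInjective (he_injective R)).toEquiv,
    Nat.card_units, Nat.card_eq_fintype_card]

theorem gH_cyclic : IsCyclic R.gp.gH := by
  rw [gH_eq_range R]
  exact isCyclic_of_surjective _ (he R).rangeRestrict_surjective

theorem eq_one_of_gU_gH {g : ↥(twistedG2 K (3 ^ m))} (hU : g ∈ R.gp.gU) (hH : g ∈ R.gp.gH) :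
    g = 1 :=
  Subtype.ext (Subgroup.mem_bot.1 (C.G.U_inf_H (K := K) ▸ Subgroup.mem_inf.2 ⟨hU, hH⟩))

/-- an element of `U` commuting with a torus element of order greater than two is trivial -/
theorem eq_one_of_commute {y : Kˣ} (hy : y * y ≠ 1) {w : ↥(twistedG2 K (3 ^ m))} (hw : w ∈ R.gp.gU)
    (hc : w * he R y = he R y * w) : w = 1 := by
  obtain ⟨t, u, v, rfl⟩ := (mem_gU_iff R).1 hw
  by_contra hne
  have hne' : reeP θ t u v ≠ 1 := fun h => hne (Subtype.ext h)
  rcases eq_pm_one_of_commute θ R.cu hne' (congrArg Subtype.val hc.symm) with rfl | rfl <;>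
    simp at hy

/-- conjugation between torus elements of order greater than two -/
theorem conj_he {g : ↥(twistedG2 K (3 ^ m))} {y y' : Kˣ} (hy : y * y ≠ 1)
    (h : g * he R y = he R y' * g) :
    (g ∈ R.gp.gH ∧ y' = y) ∨ ∃ b, g = R.gp.mMax * he R b ∧ y' = y⁻¹ := by
  set M := R.gp.mMax with hM
  have hyinv : y⁻¹ * y⁻¹ ≠ 1 := by rwa [← mul_inv, inv_ne_one]
  have hnz : ∀ z, ∀ w ∈ R.gp.gU, he R z * w * (he R z)⁻¹ ∈ R.gp.gU := fun z w hw =>
    (Subgroup.mem_normalizer_iff.1 (he_normalizes R z).1 w).1 hw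
  have hcomm : ∀ a b : Kˣ, he R a * he R b = he R b * he R a := fun a b => ((Commute.all a b).map (he R)).eq
  obtain ⟨u, hu, c, hc, b, e | e⟩ := bruhat R g
  · set w := u * (he R b * c * (he R b)⁻¹)
    have hwU : w ∈ R.gp.gU := mul_mem hu (hnz b c hc)
    have hg : g = w * he R b := by rw [e]; simp only [w]; group
    have h1 : w * he R y = he R y' * w := by
      rw [hg, mul_assoc, hcomm b y, ← mul_assoc, ← mul_assoc] at h
      exact mul_right_cancel h
    have h5 : w * he R y * w⁻¹ * (he R y)⁻¹ = 1 := by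
      refine eq_one_of_gU_gH R ?_ ?_
      · rw [show w * he R y * w⁻¹ * (he R y)⁻¹ = w * (he R y * w⁻¹ * (he R y)⁻¹) by group]
        exact mul_mem hwU (hnz _ _ (inv_mem hwU))
      · rw [h1, mul_inv_cancel_right]
        exact mul_mem (he_mem R _) (inv_mem (he_mem R _))
    rw [h1, mul_inv_cancel_right, mul_inv_eq_one] at h5
    have h8 : y' = y := he_injective R h5
    subst h8
    refine Or.inl ⟨?_, rfl⟩
    rw [hg, eq_one_of_commute R hy hwU h1, one_mul]
    exact he_mem R b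
  · set N := M * he R b with hN
    have hNy : N * he R y * N⁻¹ = he R y⁻¹ := by
      calc N * he R y * N⁻¹ = M * (he R b * he R y * (he R b)⁻¹) * M⁻¹ := by rw [hN]; group
        _ = M * he R y * M⁻¹ := by rw [hcomm b y, mul_inv_cancel_right]
        _ = M * (M⁻¹ * he R y⁻¹ * M) * M⁻¹ := by rw [mMax_conj_he, inv_inv]
        _ = _ := by group
    set c' := (he R y)⁻¹ * c * he R y
    have hc' : c' ∈ R.gp.gU := by
      have := hnz y⁻¹ c hc
      rwa [map_inv, inv_inv] at this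
    have h1 : u * he R y⁻¹ * N * c' = he R y' * u * N * c := by
      calc u * he R y⁻¹ * N * c' = u * (N * he R y * N⁻¹) * N * ((he R y)⁻¹ * c * he R y) := by rw [hNy]
        _ = u * N * c * he R y := by group
        _ = _ := by rw [← e, h, e]; group
    have h2 : N * (c' * c⁻¹) * N⁻¹ = (u * he R y⁻¹)⁻¹ * (he R y' * u) := by
      calc N * (c' * c⁻¹) * N⁻¹
          = (u * he R y⁻¹)⁻¹ * (u * he R y⁻¹ * N * c') * c⁻¹ * N⁻¹ := by group
        _ = _ := by rw [h1]; group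
    have h3 : N * (c' * c⁻¹) * N⁻¹ ∈ R.gp.gB ⊓ R.gp.gV := by
      refine Subgroup.mem_inf.2 ⟨?_, ?_⟩
      · rw [h2]
        exact mul_mem (inv_mem (mul_mem (R.gp.gU_le_gB hu) (R.gp.gH_le_gB (he_mem R _))))
          (mul_mem (R.gp.gH_le_gB (he_mem R _)) (R.gp.gU_le_gB hu))
      · rw [show N * (c' * c⁻¹) * N⁻¹ = M * (he R b * (c' * c⁻¹) * (he R b)⁻¹) * M⁻¹ by rw [hN]; group]
        exact (R.gp.mem_gV_iff _).2 (hnz b _ (mul_mem hc' (inv_mem hc)))
    rw [R.gp.gB_inf_gV, Subgroup.mem_bot] at h3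
    have hcc : c' = c := mul_inv_eq_one.1 (conj_eq_one_iff.1 h3)
    have hbb : u * he R y⁻¹ = he R y' * u := inv_mul_eq_one.1 (h2.symm.trans h3)
    have h5 : u * he R y⁻¹ * u⁻¹ * (he R y⁻¹)⁻¹ = 1 := by
      refine eq_one_of_gU_gH R ?_ ?_
      · rw [show u * he R y⁻¹ * u⁻¹ * (he R y⁻¹)⁻¹ = u * (he R y⁻¹ * u⁻¹ * (he R y⁻¹)⁻¹) by group]
        exact mul_mem hu (hnz _ _ (inv_mem hu))
      · rw [hbb, mul_inv_cancel_right]
        exact mul_mem (he_mem R _) (inv_mem (he_mem R _))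
    rw [hbb, mul_inv_cancel_right, mul_inv_eq_one] at h5
    have h6 : y' = y⁻¹ := he_injective R h5
    subst h6
    refine Or.inr ⟨b, ?_, rfl⟩
    have hc1 : c * he R y = he R y * c := by
      conv_rhs => rw [← hcc]
      simp only [c']
      group
    rw [e, eq_one_of_commute R hyinv hu hbb, eq_one_of_commute R hy hc hc1, one_mul, mul_one]

theorem centralizer_he {y : Kˣ} (hy : y * y ≠ 1) : Subgroup.centralizer {he R y} = R.gp.gH := by
  ext g
  rw [Subgroup.mem_centralizer_singleton_iff]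
  constructor
  · intro hg
    rcases conj_he R hy hg with h | ⟨b, -, h⟩
    · exact h.1
    · exact absurd (mul_eq_one_iff_eq_inv.2 h) hy
  · intro hg
    obtain ⟨b, rfl⟩ := (mem_gH_iff R).1 hg
    exact ((Commute.all b y).map (he R)).eq

theorem conj_gH {y : Kˣ} (hy : y * y ≠ 1) {g : ↥(twistedG2 K (3 ^ m))}
    (h : g * he R y * g⁻¹ ∈ R.gp.gH) : g ∈ Subgroup.normalizer (R.gp.gH : Set ↥(twistedG2 K (3 ^ m))) := by
  obtain ⟨y', hy'⟩ := (mem_gH_iff R).1 h
  rcases conj_he R hy (mul_inv_eq_iff_eq_mul.1 hy') with h1 | ⟨b, rfl, -⟩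
  · exact Subgroup.le_normalizer h1.1
  · refine mul_mem ?_ (Subgroup.le_normalizer (he_mem R b))
    rw [Subgroup.mem_normalizer_iff'']
    intro z
    constructor
    · intro hz
      obtain ⟨a, rfl⟩ := (mem_gH_iff R).1 hz
      rw [mMax_conj_he]
      exact he_mem R _
    · intro hz
      obtain ⟨a, ha⟩ := (mem_gH_iff R).1 hz
      have h2 := mMax_conj_he R a⁻¹
      rw [inv_inv, ← ha] at h2
      rw [← mul_left_cancel (mul_right_cancel h2)]
      exact he_mem R _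

end CfsgLib.Lie.Chev.TG2
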