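import Cfsg.Agent.Lib.Lie.Chev.Tw.Ree.Tori.EllipticNorm
import Cfsg.Agent.Lib.Perm.OddProductPSL

/-!
# ²G₂(q): the two tori of orders (q - 1)/2 and (q + 1)/4
-/

set_option autoImplicit false
set_option maxRecDepth 100000

namespace CfsgLib.Lie.Chev.TG2

open Cfsg.Lie
open CfsgLib.PSL2Two (π)
open scoped MatrixGroups

variable {K : Type*} [Field K] [Fintype K] [CharP K 3] {θ : K ≃+* K} {m : ℕ} (R : Ree θ m)

local notation "S2" => Matrix.SpecialLinearGroup (Fin 2) K
local notation "P2" => Matrix.ProjectiveSpecialLinearGroup (Fin 2) K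
local notation "Z2" => Multiplicative (ZMod 2)
set_option quotPrecheck false
local notation "GG" => ↥(twistedG2 K (3 ^ m))
local notation "Nm" => fun (H : Subgroup ↥(twistedG2 K (3 ^ m))) => Subgroup.normalizer (H : Set ↥(twistedG2 K (3 ^ m)))

include R in
theorem card_K_ge (hm : 1 ≤ m) : 27 ≤ Fintype.card K :=
  R.big ▸ (Nat.pow_le_pow_right (by norm_num) (by omega) : 3 ^ 3 ≤ 3 ^ (2 * m + 1))

theorem normalizer_le_centralizer' {G : Type*} [Group G] (H : Subgroup G) :
    Subgroup.normalizer (H : Set G) ≤ Subgroup.normalizer ((Subgroup.centralizer (H : Set G) : Subgroup G) : Set G) := by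
  intro g hg
  have key : ∀ g : G, g ∈ Subgroup.normalizer (H : Set G) → ∀ x ∈ Subgroup.centralizer (H : Set G),
      g * x * g⁻¹ ∈ Subgroup.centralizer (H : Set G) := by
    intro g hg x hx
    rw [Subgroup.mem_centralizer_iff] at hx ⊢
    intro h hh
    have h' := hx _ ((Subgroup.mem_normalizer_iff''.1 hg h).1 hh)
    calc h * (g * x * g⁻¹) = g * ((g⁻¹ * h * g) * x) * g⁻¹ := by group
      _ = g * (x * (g⁻¹ * h * g)) * g⁻¹ := by rw [h']
      _ = _ := by group
  rw [Subgroup.mem_normalizer_iff]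
  exact fun x => ⟨key g hg x, fun h => by
    have := key g⁻¹ (inv_mem hg) _ h
    rwa [inv_inv, show g⁻¹ * (g * x * g⁻¹) * g = x by group] at this⟩

/-- the split torus of odd order -/
noncomputable def oT (R : Ree θ m) : Subgroup GG :=
  (powMonoidHom 2 : Kˣ →* Kˣ).range.map (he R)

theorem mem_oT_iff {x : GG} : x ∈ oT R ↔ ∃ b : Kˣ, he R (b ^ 2) = x :=
  ⟨fun ⟨_, ⟨b, hb⟩, e⟩ => ⟨b, by rw [← e, ← hb]; rfl⟩, fun ⟨b, e⟩ => ⟨_, ⟨b, rfl⟩, e⟩⟩

theorem oT_le : oT R ≤ R.gp.gH := fun x hx => by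
  obtain ⟨b, rfl⟩ := (mem_oT_iff R).1 hx
  exact he_mem R _

theorem card_oT : Nat.card (oT R) = (Fintype.card K - 1) / 2 := by
  have hodd := card_odd (K := K)
  rw [oT, Subgroup.card_map_of_injective (he_injective R), IsCyclic.card_powMonoidHom_range, Nat.card_units,
    Nat.card_eq_fintype_card, Nat.gcd_eq_right (by obtain ⟨k, hk⟩ := hodd; exact ⟨k, by omega⟩)]

theorem oT_cyclic : IsCyclic (oT R) :=
  haveI := gH_cyclic R
  isCyclic_of_injective (Subgroup.inclusion (oT_le R)) (Subgroup.inclusion_injective _)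

theorem oT_sq_ne_one {y : Kˣ} (hy : he R y ∈ oT R) (h1 : y ≠ 1) : y * y ≠ 1 := by
  intro h
  obtain ⟨b, hb⟩ := (mem_oT_iff R).1 hy
  obtain rfl := he_injective R hb
  have hd : orderOf (b ^ 2) ∣ (Fintype.card K - 1) / 2 := by
    rw [← card_oT R, ← orderOf_injective (he R) (he_injective R)]
    exact Subgroup.orderOf_dvd_natCard _ hy
  have h2 : orderOf (b ^ 2) ∣ 2 := orderOf_dvd_of_pow_eq_one ((pow_two _).trans h)
  have := (card_K_facts R).2.1
  exact h1 (orderOf_eq_one_iff.1 (Nat.eq_one_of_dvd_coprimes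
    ((Nat.Prime.coprime_iff_not_dvd Nat.prime_two).2 (show ¬ 2 ∣ (Fintype.card K - 1) / 2 by omega)) h2 hd))

theorem mMax_normalizes : R.gp.mMax ∈ Nm R.gp.gH := by
  refine mem_normalizer_of_conj_mem fun x hx => ?_
  obtain ⟨a, rfl⟩ := (mem_gH_iff R).1 hx
  have h := mMax_conj_he R a⁻¹
  rw [inv_inv] at h
  rw [← h]
  convert he_mem R a⁻¹ using 1
  group

theorem oT_normalizer_sub {A₀ : Subgroup GG} (hA : A₀ ≤ oT R) (hne : A₀ ≠ ⊥) :
    Nm A₀ = Nm R.gp.gH := by
  obtain ⟨⟨x, hx⟩, hx1⟩ := Subgroup.ne_bot_iff_exists_ne_one.1 hne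
  obtain ⟨y, rfl⟩ := (mem_gH_iff R).1 (oT_le R (hA hx))
  have hy := oT_sq_ne_one R (hA hx) (fun h => hx1 (Subtype.ext (by simp [h])))
  refine le_antisymm (fun g hg => conj_gH R hy (oT_le R (hA ((Subgroup.mem_normalizer_iff.1 hg _).1 hx)))) ?_
  intro g hg
  refine mem_normalizer_of_conj_mem fun z hz => ?_
  have hmem : g * z * g⁻¹ ∈ R.gp.gH := (Subgroup.mem_normalizer_iff.1 hg z).1 (oT_le R (hA hz))
  have e : Subgroup.zpowers (g * z * g⁻¹) = Subgroup.zpowers z := by
    refine TICount.cyclic_subgroup_unique (gH_cyclic R) (Subgroup.zpowers_le.2 hmem)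
      (Subgroup.zpowers_le.2 (oT_le R (hA hz))) ?_
    rw [Nat.card_zpowers, Nat.card_zpowers, ← MulAut.conj_apply, MulEquiv.orderOf_eq]
  exact Subgroup.zpowers_le.2 hz (e ▸ Subgroup.mem_zpowers _)

theorem card_normalizer_gH (hm : 1 ≤ m) : Nat.card (Nm R.gp.gH) = 2 * (Fintype.card K - 1) := by
  classical
  have hq := card_K_ge R hm
  haveI : IsCyclic Kˣ := inferInstance
  obtain ⟨y, hy⟩ := IsCyclic.exists_ofOrder_eq_natCard (α := Kˣ)
  have hy2 : y * y ≠ 1 := fun h => by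
    have := Nat.le_of_dvd two_pos (orderOf_dvd_of_pow_eq_one ((pow_two y).trans h))
    rw [hy, Nat.card_units, Nat.card_eq_fintype_card] at this
    omega
  have hMn : R.gp.mMax ∉ R.gp.gH := by
    intro h
    obtain ⟨a, ha⟩ := (mem_gH_iff R).1 h
    have h2 := mMax_conj_he R y
    rw [ha, ← map_inv, ← map_mul, ← map_mul, mul_comm a⁻¹, inv_mul_cancel_right] at h2
    have h3 : y = y⁻¹ := he_injective R h2
    exact hy2 (mul_eq_one_iff_eq_inv.2 h3)
  rw [← Nat.card_eq_of_bijective (fun p : Bool × R.gp.gH => (⟨(if p.1 then R.gp.mMax else 1) * p.2,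
    mul_mem (by cases p.1; exacts [one_mem _, mMax_normalizes R]) (Subgroup.le_normalizer p.2.2)⟩ :
      Nm R.gp.gH)) ⟨?_, ?_⟩]
  · rw [Nat.card_prod, Nat.card_eq_fintype_card (α := Bool), Fintype.card_bool, card_gH R]
  · rintro ⟨s, t⟩ ⟨s', t'⟩ h
    have h' := congrArg Subtype.val h
    cases s <;> cases s' <;> simp at h'
    · rw [h']
    · exact absurd ((eq_mul_inv_of_mul_eq h'.symm).symm ▸ mul_mem t.2 (inv_mem t'.2)) hMn
    · exact absurd ((eq_mul_inv_of_mul_eq h').symm ▸ mul_mem t'.2 (inv_mem t.2)) hMn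
    · rw [h']
  · rintro ⟨g, hg⟩
    obtain ⟨y', hy'⟩ := (mem_gH_iff R).1 ((Subgroup.mem_normalizer_iff.1 hg _).1 (he_mem R y))
    rcases conj_he R hy2 (mul_inv_eq_iff_eq_mul.1 hy') with ⟨h, -⟩ | ⟨b, rfl, -⟩
    · exact ⟨(false, ⟨g, h⟩), Subtype.ext (one_mul g)⟩
    · exact ⟨(true, ⟨_, he_mem R b⟩), rfl⟩

theorem exists_odd_prime {i : ℕ} (h2 : 2 < i) (h4 : ¬ 4 ∣ i) : ∃ r, r.Prime ∧ r ∣ i ∧ r ≠ 2 := by
  rcases Nat.even_or_odd i with ⟨k, rfl⟩ | ho
  · obtain ⟨r, hr, hrk⟩ := Nat.exists_prime_and_dvd (show k ≠ 1 by omega)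
    refine ⟨r, hr, hrk.trans ⟨2, by omega⟩, ?_⟩
    rintro rfl
    obtain ⟨j, rfl⟩ := hrk
    exact h4 ⟨j, by omega⟩
  · obtain ⟨r, hr, hrk⟩ := Nat.exists_prime_and_dvd (show i ≠ 1 by omega)
    exact ⟨r, hr, hrk, fun e => by subst e; exact (Nat.not_even_iff_odd.2 ho) (even_iff_two_dvd.2 hrk)⟩

include R in
theorem sylow_prime_bound {r : ℕ} (hr : r.Prime) (hr2 : r ≠ 2)
    (hd : r ∣ Fintype.card K - 1 ∨ r ∣ Fintype.card K + 1) : 3 < r := by
  have h3 : r ≠ 3 := by
    rintro rfl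
    have h : 3 ∣ Fintype.card K := R.big ▸ dvd_pow_self 3 (Nat.succ_ne_zero _)
    have := (card_K_facts R).1
    omega
  have := hr.two_le
  omega

/-- elements of order above two dividing `q - 1` are conjugate into the split torus -/
theorem exists_conj_gH (hm : 1 ≤ m) {g : GG} (h2 : 2 < orderOf g)
    (hd : orderOf g ∣ Fintype.card K - 1) : ∃ c, c⁻¹ * g * c ∈ R.gp.gH := by
  have h4 : ¬ 4 ∣ orderOf g := fun h => by
    have := h.trans hd; have := (card_K_facts R).2.1; omega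
  obtain ⟨r, hr, hro, hr2⟩ := exists_odd_prime h2 h4
  haveI := Fact.mk hr
  have hrq : r ∣ Nat.card Kˣ := by
    rw [Nat.card_units, Nat.card_eq_fintype_card]; exact hro.trans hd
  obtain ⟨y, hy⟩ := exists_prime_orderOf_dvd_card' r hrq
  have hy' : orderOf (he R y) = r := by rw [orderOf_injective _ (he_injective R), hy]
  have hy2 : y * y ≠ 1 := fun h =>
    hr2 ((Nat.prime_dvd_prime_iff_eq hr Nat.prime_two).1
      (hy ▸ orderOf_dvd_of_pow_eq_one ((pow_two y).trans h)))
  have hx := orderOf_pow_orderOf_div (orderOf_pos g).ne' hro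
  set x := g ^ (orderOf g / r)
  obtain ⟨c, hc⟩ := TICount.exists_conj_zpowers
    (sylow_cyclic R hm (sylow_prime_bound R hr hr2 (Or.inl (hro.trans hd)))) hx hy'
  obtain ⟨i, hi⟩ := mem_powers_iff_mem_zpowers.2 hc
  have hi' : he R (y ^ i) = c⁻¹ * x * c := (map_pow _ _ _).trans hi
  have hne : y ^ i * y ^ i ≠ 1 := by
    intro h
    have e : orderOf (c⁻¹ * x * c) = r := by
      rw [show c⁻¹ * x * c = MulAut.conj c⁻¹ x by simp, MulEquiv.orderOf_eq, hx]
    refine pow_two_ne_one R hr hr2 e ?_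
    rw [← hi', ← map_pow, pow_two, h, map_one]
  refine ⟨c, ?_⟩
  rw [← centralizer_he R hne, Subgroup.mem_centralizer_singleton_iff, hi']
  calc c⁻¹ * g * c * (c⁻¹ * x * c) = c⁻¹ * (g * x) * c := by group
    _ = c⁻¹ * (x * g) * c := by rw [(Commute.self_pow g _).eq]
    _ = _ := by group

theorem oT_data (hm : 1 ≤ m) :
    TICount.TorusData (oT R) ((Fintype.card K - 1) / 2) (2 * (Fintype.card K - 1)) where
  cyc := oT_cyclic R
  card := card_oT R
  normCard := by
    have hne : oT R ≠ ⊥ := fun h => by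
      have := card_oT R; rw [h, Subgroup.card_bot] at this; have := card_K_ge R hm; omega
    rw [← card_normalizer_gH R hm, show (Subgroup.normalizer (oT R : Set GG)) = _ from oT_normalizer_sub R le_rfl hne]
  normSub A₀ hA hne := by
    rw [show (Subgroup.normalizer (A₀ : Set GG)) = _ from oT_normalizer_sub R hA hne]
    exact (oT_normalizer_sub R le_rfl fun h => hne (le_bot_iff.1 (h ▸ hA))).symm
  cover g hg hd := by
    have hodd : ¬ 2 ∣ (Fintype.card K - 1) / 2 := by have := (card_K_facts R).2.1; omega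
    have h2 : 2 < orderOf g := by
      have h0 := orderOf_pos g
      have h1 : orderOf g ≠ 1 := fun h => hg (orderOf_eq_one_iff.1 h)
      have h2 : orderOf g ≠ 2 := fun h => hodd (h ▸ hd)
      omega
    obtain ⟨c, hc⟩ := exists_conj_gH R hm h2 (hd.trans (Nat.div_dvd_of_dvd (by
      have := (card_K_facts R).2.1; omega)))
    refine ⟨c, ?_⟩
    obtain ⟨b, hb⟩ := (mem_gH_iff R).1 hc
    rw [hb]
    have ho : orderOf b ∣ (Fintype.card K - 1) / 2 := by
      rw [← orderOf_injective (he R) (he_injective R), ← hb, show c⁻¹ * g * c = MulAut.conj c⁻¹ g by simp,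
        MulEquiv.orderOf_eq]
      exact hd
    obtain ⟨j, hj⟩ := (Nat.odd_iff.2 (by omega) : Odd ((Fintype.card K - 1) / 2))
    refine (mem_oT_iff R).2 ⟨b ^ (j + 1), ?_⟩
    rw [← pow_mul, show (j + 1) * 2 = (Fintype.card K - 1) / 2 + 1 by omega, pow_succ,
      orderOf_dvd_iff_pow_eq_one.1 ho, one_mul]

theorem oT_centralizer {A : Subgroup GG} (hA : A ≤ oT R) (hne : A ≠ ⊥) :
    Subgroup.centralizer (A : Set GG) = R.gp.gH := by
  obtain ⟨⟨x, hx⟩, hx1⟩ := Subgroup.ne_bot_iff_exists_ne_one.1 hne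
  obtain ⟨y, rfl⟩ := (mem_gH_iff R).1 (oT_le R (hA hx))
  refine le_antisymm ?_ fun g hg => Subgroup.mem_centralizer_iff.2 fun z hz => ?_
  · rw [← centralizer_he R (oT_sq_ne_one R (hA hx) (fun h => hx1 (Subtype.ext (by simp [h]))))]
    exact Subgroup.centralizer_le (Set.singleton_subset_iff.2 hx)
  · obtain ⟨a, rfl⟩ := (mem_gH_iff R).1 (oT_le R (hA hz))
    obtain ⟨b, rfl⟩ := (mem_gH_iff R).1 hg
    exact ((Commute.all a b).map (he R)).eq

theorem cT_cyclic : IsCyclic (cT R) := by unfold cT; infer_instance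

theorem normalizer_eE_le (hm : 1 ≤ m) : Nm (eE R) ≤ Nm (cT R) := by
  intro g hg
  refine mem_normalizer_of_conj_mem fun x hx => ?_
  obtain ⟨n, hn⟩ := card_K_eq R
  obtain ⟨hxT, hx1⟩ := (mem_cT_iff R).1 hx
  have hxC : x ∈ Subgroup.centralizer (eE R : Set GG) :=
    Subgroup.mem_centralizer_iff.2 fun z hz => eT_comm R hz.1 hxT
  have hy : g * x * g⁻¹ ∈ Subgroup.centralizer (eE R : Set GG) :=
    (Subgroup.mem_normalizer_iff.1 (normalizer_le_centralizer' _ hg) x).1 hxC
  have hy1 : (g * x * g⁻¹) ^ ((Fintype.card K + 1) / 4) = 1 := by rw [conj_pow, hx1, mul_one, mul_inv_cancel]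
  refine (mem_cT_iff R).2 ⟨?_, hy1⟩
  have e : g * x * g⁻¹ = ((g * x * g⁻¹) ^ 2) ^ (n + 1) := by
    rw [← pow_mul, show 2 * (n + 1) = (Fintype.card K + 1) / 4 + 1 by rw [ell_half R hn]; ring,
      pow_succ, hy1, one_mul]
  rw [e]
  exact pow_mem ((card_centralizer_eE R hm).2 _ hy) _

theorem cT_ne_bot (hm : 1 ≤ m) : cT R ≠ ⊥ := fun h => by
  have := card_cT R; rw [h, Subgroup.card_bot] at this; have := card_K_ge R hm; omega

theorem normalizer_cT_sub (hm : 1 ≤ m) {A₀ : Subgroup GG} (hA : A₀ ≤ cT R) (hne : A₀ ≠ ⊥) :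
    Nm A₀ = Nm (eE R) := by
  refine le_antisymm ?_ ?_
  · intro g hg
    have hT : g ∈ Nm (eT R) := by
      have := normalizer_le_centralizer' _ hg
      rwa [cT_centralizer R hm hA hne] at this
    refine mem_normalizer_of_conj_mem fun x hx => ⟨(Subgroup.mem_normalizer_iff.1 hT x).1 hx.1, ?_⟩
    calc g * x * g⁻¹ * (g * x * g⁻¹) = g * (x * x) * g⁻¹ := by group
      _ = 1 := by rw [hx.2, mul_one, mul_inv_cancel]
  · intro g hg
    refine mem_normalizer_of_conj_mem fun z hz => ?_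
    have hmem : g * z * g⁻¹ ∈ cT R :=
      (Subgroup.mem_normalizer_iff.1 (normalizer_eE_le R hm hg) z).1 (hA hz)
    have e : Subgroup.zpowers (g * z * g⁻¹) = Subgroup.zpowers z := by
      refine TICount.cyclic_subgroup_unique (cT_cyclic R) (Subgroup.zpowers_le.2 hmem)
        (Subgroup.zpowers_le.2 (hA hz)) ?_
      rw [Nat.card_zpowers, Nat.card_zpowers, ← MulAut.conj_apply, MulEquiv.orderOf_eq]
    exact Subgroup.zpowers_le.2 hz (e ▸ Subgroup.mem_zpowers _)

/-- conjugation in the centraliser of the involution cannot add the involution -/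
theorem conj_ne_ia_mul {g e : GG} (hg : g ∈ Subgroup.centralizer {ia R}) (he' : e ∈ Subgroup.centralizer {ia R}) :
    g * e * g⁻¹ ≠ ia R * e := by
  rw [centralizer_eq R] at hg he'
  obtain ⟨⟨a, x⟩, rfl⟩ := hg
  obtain ⟨⟨b, y⟩, rfl⟩ := he'
  intro h
  rw [ia_eq_zHom R, ← map_inv, ← map_mul, ← map_mul, ← map_mul] at h
  have e := congrArg Prod.fst (zHom_injective R h)
  simp only [Prod.fst_mul, Prod.fst_inv] at e
  rw [mul_comm a, mul_inv_cancel_right, right_eq_mul] at e
  exact absurd e (show (Multiplicative.ofAdd 1 : Z2) ≠ 1 by decide)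

theorem card_normalizer_eE (hm : 1 ≤ m) : Nat.card (Nm (eE R)) = 6 * (Fintype.card K + 1) := by
  classical
  obtain ⟨hcard, -⟩ := card_centralizer_eE R hm
  set N := Subgroup.normalizer (eE R : Set GG)
  set C := Subgroup.centralizer (eE R : Set GG)
  have hCN : C ≤ N := fun x hx => mem_normalizer_of_conj_mem fun z hz => by
    rw [← Subgroup.mem_centralizer_iff.1 hx z hz, mul_inv_cancel_right]; exact hz
  have hstab : ∀ g ∈ N, g * ia R * g⁻¹ = ia R → g ∈ C := by
    intro g hg h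
    have hgC : g ∈ Subgroup.centralizer {ia R} :=
      Subgroup.mem_centralizer_singleton_iff.2 (mul_inv_eq_iff_eq_mul.1 h)
    have hb : g * eB R * g⁻¹ = eB R := by
      rcases eE_cases R ((Subgroup.mem_normalizer_iff.1 hg _).1 (eB_mem R)) with e | e | e | e
      · exact absurd (conj_eq_one_iff.1 e) (eB_ne_one R)
      · exact absurd (mul_left_cancel (mul_right_cancel (e.trans h.symm))) (ia_ne_eB R).symm
      · exact e
      · exact absurd e (conj_ne_ia_mul R hgC (eT_le R (eB_mem R).1))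
    have hia : Commute g (ia R) := mul_inv_eq_iff_eq_mul.1 h
    have hb' : Commute g (eB R) := mul_inv_eq_iff_eq_mul.1 hb
    rw [Subgroup.mem_centralizer_iff]
    intro z hz
    rcases eE_cases R hz with rfl | rfl | rfl | rfl
    exacts [(Commute.one_left g).eq, hia.eq.symm, hb'.eq.symm, (hia.mul_right hb').eq.symm]
  have hsurj : ∀ e ∈ eE R, e ≠ 1 → ∃ g ∈ N, g * ia R * g⁻¹ = e := by
    intro e he' he1
    rcases eq_or_ne e (ia R) with rfl | hne
    · exact ⟨1, one_mem _, by group⟩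
    obtain ⟨c, hc⟩ := exists_conj_invol R he'.2 he1
    set z := c⁻¹ * ia R * c
    have hzC : z ∈ Subgroup.centralizer {ia R} := by
      have h := eT_comm R (ia_mem_eT R) he'.1
      rw [← hc] at h
      rw [Subgroup.mem_centralizer_singleton_iff]
      calc c⁻¹ * ia R * c * ia R = c⁻¹ * (ia R * (c * ia R * c⁻¹)) * c := by group
        _ = c⁻¹ * (c * ia R * c⁻¹ * ia R) * c := by rw [h]
        _ = ia R * (c⁻¹ * ia R * c) := by group
    rw [centralizer_eq R] at hzC
    obtain ⟨⟨a, w⟩, hzw⟩ := hzC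
    obtain ⟨n, hn⟩ := card_K_eq R
    have hz2 : z * z = 1 := by
      simp only [z]
      calc c⁻¹ * ia R * c * (c⁻¹ * ia R * c) = c⁻¹ * (ia R * ia R) * c := by group
        _ = 1 := by rw [ia_sq, mul_one, inv_mul_cancel]
    have hw : orderOf w = 2 := by
      refine orderOf_eq_prime ?_ fun h => ?_
      · rw [← hzw, ← map_mul, ← map_one (zHom R)] at hz2
        exact (pow_two w).trans (congrArg Prod.snd (zHom_injective R hz2))
      · rw [h] at hzw
        rcases mult_cases a with rfl | rfl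
        · have h1 : z = 1 := hzw.symm.trans (map_one _)
          have : ia R = 1 := by
            calc ia R = c * z * c⁻¹ := by simp only [z]; group
              _ = 1 := by rw [h1]; group
          exact ia_ne_one R this
        · rw [← ia_eq_zHom R] at hzw
          refine hne ?_
          calc e = c * ia R * c⁻¹ := hc.symm
            _ = c * z * c⁻¹ := by rw [hzw]
            _ = ia R := by simp only [z]; group
    obtain ⟨d, hd⟩ := isConj_iff.1 (CfsgLib.OddProdPSL.isConj_of_invol hw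
      (orderOf_eq_prime ((pow_two _).trans (ell_half_sq R hn).1) (ell_half_sq R hn).2))
    set D := zHom R (1, d)
    have hDia : D * ia R * D⁻¹ = ia R := by
      rw [mul_inv_eq_iff_eq_mul]
      exact Subgroup.mem_centralizer_singleton_iff.1 (zHom_mem R _)
    have hDz : D * z * D⁻¹ = zHom R (a, π (ellGen K) ^ ((Fintype.card K + 1) / 4)) := by
      rw [← hzw, ← map_inv, ← map_mul, ← map_mul, ell_half R hn]
      congr 1
      simp [hd]
    have hmap : eE R = (eE R).map (MulAut.conj (D * c⁻¹)).toMonoidHom := by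
      refine Subgroup.eq_of_le_of_card_ge (eE_le R ⟨e, he', ?_⟩ a ⟨ia R, ia_mem_eE R, ?_⟩)
        (Subgroup.card_map_of_injective (MulEquiv.injective _)).le
      · show D * c⁻¹ * e * (D * c⁻¹)⁻¹ = _
        rw [← hc]
        calc D * c⁻¹ * (c * ia R * c⁻¹) * (D * c⁻¹)⁻¹ = D * ia R * D⁻¹ := by group
          _ = ia R := hDia
      · show D * c⁻¹ * ia R * (D * c⁻¹)⁻¹ = _
        rw [← hDz]
        simp only [z]
        group
    have hN : D * c⁻¹ ∈ N := mem_normalizer_of_conj_mem fun x hx => hmap.ge ⟨x, hx, rfl⟩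
    refine ⟨(D * c⁻¹)⁻¹, inv_mem hN, ?_⟩
    calc (D * c⁻¹)⁻¹ * ia R * (D * c⁻¹)⁻¹⁻¹ = c * (D⁻¹ * ia R * D) * c⁻¹ := by group
      _ = e := by
        rw [show D⁻¹ * ia R * D = ia R from by nth_rewrite 1 [← hDia]; group, hc]
  have hq : Nat.card (N ⧸ C.subgroupOf N) = 3 := by
    have h3 : Nat.card {x : eE R // x ≠ 1} = 3 := by
      haveI := Fintype.ofFinite (eE R)
      rw [Nat.card_eq_fintype_card, Fintype.card_subtype_compl, Fintype.card_subtype_eq,
        ← Nat.card_eq_fintype_card, card_eE R]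
    refine Eq.trans ?_ h3
    refine Nat.card_eq_of_bijective (fun k : N ⧸ C.subgroupOf N =>
      (⟨⟨(k.out : GG) * ia R * (k.out : GG)⁻¹, (Subgroup.mem_normalizer_iff.1 k.out.2 _).1 (ia_mem_eE R)⟩,
        fun h => ia_ne_one R (conj_eq_one_iff.1 (congrArg Subtype.val h))⟩ : {x : eE R // x ≠ 1})) ⟨?_, ?_⟩
    · intro k k' h
      have h' : (k.out : GG) * ia R * (k.out : GG)⁻¹ = (k'.out : GG) * ia R * (k'.out : GG)⁻¹ :=
        congrArg (fun z : {x : eE R // x ≠ 1} => z.1.1) h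
      have hm' : (k'.out⁻¹ * k.out : N) ∈ C.subgroupOf N := by
        rw [Subgroup.mem_subgroupOf]
        refine hstab _ (k'.out⁻¹ * k.out : N).2 ?_
        push_cast
        calc (k'.out : GG)⁻¹ * k.out * ia R * ((k'.out : GG)⁻¹ * k.out)⁻¹
            = (k'.out : GG)⁻¹ * ((k.out : GG) * ia R * (k.out : GG)⁻¹) * k'.out := by group
          _ = ia R := by rw [h']; group
      have := QuotientGroup.eq.2 hm'
      rw [QuotientGroup.out_eq', QuotientGroup.out_eq'] at this
      exact this.symm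
    · rintro ⟨⟨e, he'⟩, he1⟩
      obtain ⟨g, hg, hge⟩ := hsurj e he' fun h => he1 (Subtype.ext h)
      obtain ⟨x, hx⟩ := QuotientGroup.mk_out_eq_mul (C.subgroupOf N) ⟨g, hg⟩
      refine ⟨QuotientGroup.mk ⟨g, hg⟩, Subtype.ext (Subtype.ext ?_)⟩
      show ((QuotientGroup.mk (⟨g, hg⟩ : N) : N ⧸ C.subgroupOf N).out : GG) * ia R * _⁻¹ = e
      rw [hx]
      push_cast
      have hxc := Subgroup.mem_centralizer_iff.1 (Subgroup.mem_subgroupOf.1 x.2) _ (ia_mem_eE R)
      calc g * (x.1 : GG) * ia R * (g * (x.1 : GG))⁻¹ = g * ((x.1 : GG) * ia R) * (x.1 : GG)⁻¹ * g⁻¹ := by group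
        _ = g * (ia R * (x.1 : GG)) * (x.1 : GG)⁻¹ * g⁻¹ := by rw [hxc]
        _ = e := by rw [← hge]; group
  rw [Subgroup.card_eq_card_quotient_mul_card_subgroup (C.subgroupOf N), hq,
    Nat.card_congr (Subgroup.subgroupOfEquivOfLe hCN).toEquiv, hcard]
  ring

theorem cT_data (hm : 1 ≤ m) :
    TICount.TorusData (cT R) ((Fintype.card K + 1) / 4) (6 * (Fintype.card K + 1)) where
  cyc := cT_cyclic R
  card := card_cT R
  normCard := by
    rw [← card_normalizer_eE R hm,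
      show (Subgroup.normalizer (cT R : Set GG)) = _ from normalizer_cT_sub R hm le_rfl (cT_ne_bot R hm)]
  normSub A₀ hA hne := by
    rw [show (Subgroup.normalizer (A₀ : Set GG)) = _ from normalizer_cT_sub R hm hA hne]
    exact (normalizer_cT_sub R hm le_rfl (cT_ne_bot R hm)).symm
  cover g hg hd := by
    obtain ⟨n, hn⟩ := card_K_eq R
    rw [ell_half R hn] at hd
    have h1 : orderOf g ≠ 1 := fun h => hg (orderOf_eq_one_iff.1 h)
    obtain ⟨r, hr, hrd⟩ := Nat.exists_prime_and_dvd h1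
    haveI := Fact.mk hr
    have hr' : r ∣ Nat.card (cT R) := by rw [card_cT R, ell_half R hn]; exact hrd.trans hd
    have hr2 : r ≠ 2 := by
      rintro rfl
      have := hrd.trans hd
      omega
    obtain ⟨⟨y, hy⟩, hyo⟩ := exists_prime_orderOf_dvd_card' r hr'
    have hy' : orderOf y = r := (Subgroup.orderOf_coe (⟨y, hy⟩ : cT R)).trans hyo
    have hx := orderOf_pow_orderOf_div (orderOf_pos g).ne' hrd
    set x := g ^ (orderOf g / r)
    obtain ⟨c, hc⟩ := TICount.exists_conj_zpowers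
      (sylow_cyclic R hm (sylow_prime_bound R hr hr2 (Or.inr ((hrd.trans hd).trans ⟨4, by omega⟩)))) hx hy'
    have hxT : c⁻¹ * x * c ∈ cT R := Subgroup.zpowers_le.2 hy hc
    have hxo : orderOf (c⁻¹ * x * c) = r := by
      rw [show c⁻¹ * x * c = MulAut.conj c⁻¹ x by simp, MulEquiv.orderOf_eq, hx]
    refine ⟨c, (mem_cT_iff R).2 ⟨?_, ?_⟩⟩
    · rw [← eT_centralizer_prime R hm (cT_le R hxT) hr hr2 hxo, Subgroup.mem_centralizer_singleton_iff]
      calc c⁻¹ * g * c * (c⁻¹ * x * c) = c⁻¹ * (g * x) * c := by group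
        _ = c⁻¹ * (x * g) * c := by rw [(Commute.self_pow g _).eq]
        _ = _ := by group
    · rw [ell_half R hn]
      refine orderOf_dvd_iff_pow_eq_one.1 ?_
      rwa [show c⁻¹ * g * c = MulAut.conj c⁻¹ g by simp, MulEquiv.orderOf_eq]

end CfsgLib.Lie.Chev.TG2
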